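import Cfsg.Agent.H83.ClassConst

/-!
Classes of a group of order 443520 with twelve classes, one class of involutions with centralizer
of order 384, and self-centralizing subgroups of orders 5, 7 and 11.
-/

set_option autoImplicit false

namespace Cfsg.Agent.H69.MTwentyTwo.Back

open Subgroup

variable {G : Type*} [Group G]

/-- The order of the centralizer. -/
noncomputable def cz (g : G) : ℕ := Nat.card (centralizer ({g} : Set G))

/-- The hypotheses of the back end. -/
structure Hyp (G : Type*) [Group G] : Prop where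
  card : Nat.card G = 443520
  classes : Nat.card (ConjClasses G) = 12
  invConj : ∀ x y : G, orderOf x = 2 → orderOf y = 2 → IsConj x y
  cInv : ∀ x : G, orderOf x = 2 → cz x = 384
  five : ∀ P : Subgroup G, Nat.card P = 5 →
    Nat.card (centralizer (P : Set G)) = 5 ∧ Nat.card (normalizer (P : Set G)) = 20
  seven : ∀ P : Subgroup G, Nat.card P = 7 →
    Nat.card (centralizer (P : Set G)) = 7 ∧ Nat.card (normalizer (P : Set G)) = 21
  eleven : ∀ P : Subgroup G, Nat.card P = 11 →
    Nat.card (centralizer (P : Set G)) = 11 ∧ Nat.card (normalizer (P : Set G)) = 55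
  four : ∀ x : G, x ^ 4 = 1 → 8 ≤ cz x

variable [Finite G]

theorem centralizer_zpowers (x : G) :
    centralizer ((zpowers x : Subgroup G) : Set G) = centralizer ({x} : Set G) := by
  rw [zpowers_eq_closure, centralizer_closure]

theorem mem_cz_iff {x g : G} : g ∈ centralizer ({x} : Set G) ↔ g * x = x * g :=
  mem_centralizer_singleton_iff

theorem orderOf_dvd_cz (x : G) : orderOf x ∣ cz x :=
  (centralizer ({x} : Set G)).orderOf_dvd_natCard (mem_cz_iff.2 rfl)

theorem cz_dvd_cz_pow (x : G) (k : ℕ) : cz x ∣ cz (x ^ k) :=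
  card_dvd_of_le fun g hg => mem_cz_iff.2 ((mem_cz_iff.1 hg : g * x = x * g) |> fun h =>
    (Commute.pow_right h k))

theorem cz_conj {x y : G} (h : IsConj x y) : cz x = cz y := by
  obtain ⟨g, rfl⟩ := isConj_iff.1 h
  apply Nat.card_congr
  refine (Equiv.subtypeEquiv (MulAut.conj g).toEquiv fun a => ?_)
  simp only [mem_cz_iff, MulEquiv.toEquiv_eq_coe, EquivLike.coe_coe, MulAut.conj_apply]
  constructor
  · intro h'
    calc g * a * g⁻¹ * (g * x * g⁻¹) = g * (a * x) * g⁻¹ := by group
      _ = g * (x * a) * g⁻¹ := by rw [h']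
      _ = g * x * g⁻¹ * (g * a * g⁻¹) := by group
  · intro h'
    apply (MulAut.conj g).injective
    simp only [MulAut.conj_apply]
    calc g * (a * x) * g⁻¹ = g * a * g⁻¹ * (g * x * g⁻¹) := by group
      _ = g * x * g⁻¹ * (g * a * g⁻¹) := h'
      _ = g * (x * a) * g⁻¹ := by group

theorem orderOf_conj {x y : G} (h : IsConj x y) : orderOf x = orderOf y := by
  obtain ⟨g, rfl⟩ := isConj_iff.1 h
  exact (orderOf_injective (MulAut.conj g).toMonoidHom (MulAut.conj g).injective x).symm

theorem cz_inv (x : G) : cz x⁻¹ = cz x := by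
  rw [cz, cz, ← centralizer_zpowers, ← centralizer_zpowers, zpowers_inv]

/-- An element of order `p` with self-centralizing cyclic subgroup is not inverted when the
normalizer has odd order. -/
theorem not_isConj_inv {p : ℕ} [Fact p.Prime] (hp : p ≠ 2) {x : G} (hx : orderOf x = p)
    (hodd : ¬ 2 ∣ Nat.card (normalizer ((zpowers x : Subgroup G) : Set G))) :
    ¬ IsConj x x⁻¹ := by
  intro h
  obtain ⟨g, hg⟩ := isConj_iff.1 h
  have hgN : g ∈ normalizer ((zpowers x : Subgroup G) : Set G) := by
    have hle : (zpowers x).map (MulAut.conj g).toMonoidHom = zpowers x := by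
      rw [MonoidHom.map_zpowers]
      simp [hg, zpowers_inv]
    intro a
    constructor
    · intro ha
      rw [SetLike.mem_coe, ← hle]
      exact ⟨a, ha, by simp⟩
    · intro ha
      rw [SetLike.mem_coe, ← hle] at ha
      obtain ⟨b, hb, he⟩ := ha
      exact (MulAut.conj g).injective he ▸ hb
  have h2 : g * g * x = x * (g * g) := by
    have e1 : g * x = x⁻¹ * g := by rw [← hg]; group
    have e2 : g * x⁻¹ = x * g := by
      calc g * x⁻¹ = x * (x⁻¹ * g) * x⁻¹ := by group
        _ = x * (g * x) * x⁻¹ := by rw [e1]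
        _ = x * g := by group
    calc g * g * x = g * (g * x) := mul_assoc _ _ _
      _ = g * x⁻¹ * g := by rw [e1, ← mul_assoc]
      _ = x * (g * g) := by rw [e2, mul_assoc]
  have ho : Odd (orderOf g) := Nat.odd_iff.2 (Nat.two_dvd_ne_zero.1 fun h =>
    hodd (h.trans (orderOf_dvd_natCard _ hgN)))
  obtain ⟨k, hk⟩ := ho
  have hgk : g = (g * g) ^ (k + 1) := by
    rw [← pow_two, ← pow_mul, show 2 * (k + 1) = orderOf g + 1 by omega, pow_succ,
      pow_orderOf_eq_one, one_mul]
  have hc : g * x = x * g := by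
    rw [hgk]
    exact (Commute.pow_left h2 (k + 1)).eq
  have : x = x⁻¹ := by
    have h := hg
    rw [hc, mul_assoc, mul_inv_cancel, mul_one] at h
    exact h
  have h2x : x ^ 2 = 1 := by rw [pow_two]; nth_rewrite 2 [this]; exact mul_inv_cancel x
  have := orderOf_dvd_of_pow_eq_one h2x
  rw [hx] at this
  exact hp ((Nat.prime_dvd_prime_iff_eq (Fact.out) Nat.prime_two).1 this)

/-- The conjugates in `P` of a generator under the normalizer of `P`. -/
noncomputable def fus (x : G) : Finset G :=
  (Set.toFinite ((fun g : G => g * x * g⁻¹) ''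
    ((normalizer ((zpowers x : Subgroup G) : Set G) : Subgroup G) : Set G))).toFinset

theorem fus_mem {x y : G} (h : y ∈ fus x) : y ∈ zpowers x ∧ IsConj x y := by
  simp only [fus, Set.Finite.mem_toFinset, Set.mem_image, SetLike.mem_coe] at h
  obtain ⟨g, hg, rfl⟩ := h
  exact ⟨(mem_normalizer_iff.1 hg x).1 (mem_zpowers x), isConj_iff.2 ⟨g, rfl⟩⟩

theorem card_fus {x : G} :
    Nat.card (normalizer ((zpowers x : Subgroup G) : Set G)) ≤
      (fus x).card * Nat.card (centralizer ((zpowers x : Subgroup G) : Set G)) := by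
  classical
  haveI := Fintype.ofFinite G
  set N := Finset.univ.filter fun g => g ∈ normalizer ((zpowers x : Subgroup G) : Set G)
  have hN : Nat.card (normalizer ((zpowers x : Subgroup G) : Set G)) = N.card := by
    rw [Nat.card_eq_fintype_card, Fintype.card_subtype]
  rw [hN, mul_comm]
  have him : fus x = N.image fun g => g * x * g⁻¹ := by
    ext; simp [fus, N]
  rw [him]
  refine Finset.card_le_mul_card_image N
    (Nat.card (centralizer ((zpowers x : Subgroup G) : Set G))) fun b hb => ?_
  obtain ⟨g0, -, hg0⟩ := Finset.mem_image.1 hb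
  rw [centralizer_zpowers, Nat.card_eq_fintype_card, Fintype.card_subtype]
  refine Finset.card_le_card_of_injOn (fun g => g0⁻¹ * g) (fun g hg => ?_)
    ((mul_right_injective g0⁻¹).injOn)
  simp only [Finset.coe_filter, Set.mem_ofPred_eq] at hg ⊢
  refine ⟨Finset.mem_univ _, mem_cz_iff.2 ?_⟩
  have h : g * x * g⁻¹ = g0 * x * g0⁻¹ := hg.2.trans hg0.symm
  calc g0⁻¹ * g * x = g0⁻¹ * (g * x * g⁻¹) * g := by group
    _ = x * (g0⁻¹ * g) := by rw [h]; group

theorem conj_or_of_order {p : ℕ} [Fact p.Prime] (hGp : (Nat.card G).factorization p = 1)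
    {x y : G} (hx : orderOf x = p) (hy : orderOf y = p) :
    ∃ y' ∈ zpowers x, y' ≠ 1 ∧ IsConj y y' := by
  classical
  have hs : ∀ a : G, orderOf a = p → ∃ S : Sylow p G, (S : Subgroup G) = zpowers a := fun a ha =>
    ⟨Sylow.ofCard (zpowers a) (by rw [Nat.card_zpowers, ha, hGp, pow_one]), Sylow.coe_ofCard _ _⟩
  obtain ⟨S, hS⟩ := hs x hx
  obtain ⟨T, hT⟩ := hs y hy
  obtain ⟨g, hg⟩ := MulAction.exists_smul_eq G T S
  refine ⟨g * y * g⁻¹, ?_, ?_, isConj_iff.2 ⟨g, rfl⟩⟩
  · rw [← hS, ← hg]
    exact ⟨y, by rw [SetLike.mem_coe, hT]; exact mem_zpowers y, rfl⟩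
  · intro e
    rw [conj_eq_one_iff] at e
    rw [e, orderOf_one] at hy
    exact (Fact.out : p.Prime).ne_one hy.symm

end Cfsg.Agent.H69.MTwentyTwo.Back
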