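import Cfsg.Agent.H69.MTwentyTwo.Back.ThreeCent

/-!
The class equation: the centralizer of an element of order three has order 36 and there is one
class of such elements.
-/

set_option autoImplicit false

namespace Cfsg.Agent.H69.MTwentyTwo.Back

open Subgroup

variable {G : Type*} [Group G] [Finite G]

/-- The possible centralizer orders of the remaining classes. -/
def rest : List ℕ := [8, 12, 16, 24, 32, 48, 64, 96, 128, 192, 384, 9]

theorem table_real : ∀ a ∈ rest, ∀ b ∈ rest, ∀ d ∈ rest, ∀ c ∈ [36, 144, 576],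
    443520 / a + 443520 / b + 443520 / d + 4 * (443520 / c) = 146300 →
      c = 36 ∧ a ≠ 9 ∧ b ≠ 9 ∧ d ≠ 9 := by
  decide +kernel

theorem table_nonreal : ∀ a ∈ rest, ∀ c ∈ [18, 72, 288, 1152],
    443520 / a + 8 * (443520 / c) ≠ 146300 := by
  decide +kernel

theorem inv_pair {z y : G} (hz : orderOf z = 2) (hyz : z * y = y * z) :
    (z * y)⁻¹ = z * y⁻¹ := by
  have hzi : z⁻¹ = z := inv_eq_of_mul_eq_one_right (by rw [← pow_two, ← hz, pow_orderOf_eq_one])
  rw [mul_inv_rev, hzi]
  exact ((Commute.inv_right (show Commute z y from hyz)).eq).symm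

theorem prod_facts {z y : G} (hz : orderOf z = 2) (hy : orderOf y = 3) (hyz : z * y = y * z) :
    orderOf (z * y) = 6 ∧
      centralizer ({z * y} : Set G) = centralizer ({y} : Set G) ⊓ centralizer ({z} : Set G) := by
  have hc : Commute z y := hyz
  refine ⟨?_, ?_⟩
  · rw [hc.orderOf_mul_eq_mul_orderOf_of_coprime (by rw [hz, hy]; norm_num), hz, hy]
  · have hz2 : z ^ 2 = 1 := by rw [← hz, pow_orderOf_eq_one]
    have hy3 : y ^ 3 = 1 := by rw [← hy, pow_orderOf_eq_one]
    have e3 : (z * y) ^ 3 = z := by rw [hc.mul_pow, hy3, mul_one, pow_succ, hz2, one_mul]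
    have e4 : (z * y) ^ 4 = y := by
      rw [hc.mul_pow, show 4 = 2 * 2 by norm_num, pow_mul, hz2, one_pow, one_mul,
        show 2 * 2 = 3 + 1 by norm_num, pow_succ, hy3, one_mul]
    ext g
    rw [mem_inf, mem_cz_iff, mem_cz_iff, mem_cz_iff]
    constructor
    · intro h
      have h' : Commute g (z * y) := h
      exact ⟨e4 ▸ (h'.pow_right 4).eq, e3 ▸ (h'.pow_right 3).eq⟩
    · rintro ⟨h1, h2⟩
      exact ((show Commute g z from h2).mul_right h1).eq

/-- An element outside the known classes has one of the listed centralizer orders. -/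
theorem mem_rest (hH : Hyp G) {y z g : G} (hy : orderOf y = 3) (hz : orderOf z = 2)
    (hyz : z * y = y * z) (h1 : g ≠ 1) (h2 : orderOf g ≠ 2)
    (hp : ∀ p, p = 5 ∨ p = 7 ∨ p = 11 → orderOf g ≠ p)
    (hA : ¬ IsConj g y) (hA' : ¬ IsConj g y⁻¹) (hB : ¬ IsConj g (z * y)) (hB' : ¬ IsConj g (z * y⁻¹)) :
    cz g ∈ rest := by
  classical
  haveI : Fact (Nat.Prime 3) := ⟨Nat.prime_three⟩
  have hord : 0 < orderOf g := orderOf_pos g
  have hn1 : orderOf g ≠ 1 := fun e => h1 (orderOf_eq_one_iff.1 e)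
  have hc := cz_dvd hH hp h1
  -- any commuting pair is fused into the given one
  have hfuse : ∀ a u : G, orderOf a = 3 → orderOf u = 2 → u * a = a * u →
      ∃ x : G, x * u * x⁻¹ = z ∧ (x * a * x⁻¹ = y ∨ x * a * x⁻¹ = y⁻¹) := by
    intro a u ha hu hua
    obtain ⟨x, hx⟩ := isConj_iff.1 (hH.invConj u z hu hz)
    set C := centralizer ({z} : Set G)
    have hC384 : (Nat.card C).factorization 3 = 1 := by
      rw [show Nat.card C = 384 from hH.cInv z hz, show (384 : ℕ) = 3 ^ 1 * 128 by norm_num,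
        Nat.factorization_mul (by norm_num) (by norm_num), Finsupp.add_apply,
        Nat.Prime.factorization_pow (by norm_num), Finsupp.single_eq_same,
        Nat.factorization_eq_zero_of_not_dvd (by norm_num)]
    have hxa : x * a * x⁻¹ ∈ C := by
      refine mem_cz_iff.2 ?_
      rw [← hx]
      calc x * a * x⁻¹ * (x * u * x⁻¹) = x * (a * u) * x⁻¹ := by group
        _ = x * (u * a) * x⁻¹ := by rw [hua]
        _ = x * u * x⁻¹ * (x * a * x⁻¹) := by group
    have hyC : y ∈ C := mem_cz_iff.2 hyz.symm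
    have ho1 : orderOf (⟨y, hyC⟩ : C) = 3 := by rw [Subgroup.orderOf_mk, hy]
    have ho2 : orderOf (⟨_, hxa⟩ : C) = 3 := by
      rw [Subgroup.orderOf_mk, ← orderOf_conj (isConj_iff.2 ⟨x, rfl⟩ : IsConj a _), ha]
    obtain ⟨y', hy'1, hy'2, hy'3⟩ := conj_or_of_order hC384 ho1 ho2
    obtain ⟨k, hk⟩ := isConj_iff.1 hy'3
    refine ⟨(k : G) * x, ?_, ?_⟩
    · calc (k : G) * x * u * ((k : G) * x)⁻¹ = (k : G) * (x * u * x⁻¹) * (k : G)⁻¹ := by group
        _ = z := by rw [hx, mul_inv_eq_iff_eq_mul]; exact mem_cz_iff.1 k.2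
    · have hk' : (k : G) * (x * a * x⁻¹) * (k : G)⁻¹ = (y' : G) := congrArg Subtype.val hk
      have hmem : (y' : G) ∈ zpowers y := by
        obtain ⟨i, rfl⟩ := mem_zpowers_iff.1 hy'1
        exact ⟨i, by simp⟩
      have hy1 : (y' : G) ≠ 1 := fun e => hy'2 (Subtype.ext e)
      rw [mem_zpowers_iff_mem_range_orderOf, hy] at hmem
      simp only [Finset.mem_image, Finset.mem_range] at hmem
      obtain ⟨i, hi, he⟩ := hmem
      rw [show (k : G) * x * a * ((k : G) * x)⁻¹ = (k : G) * (x * a * x⁻¹) * (k : G)⁻¹ by group, hk']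
      interval_cases i
      · exact absurd (by rw [← he, pow_zero]) hy1
      · exact Or.inl (by rw [← he, pow_one])
      · right
        rw [← he, pow_two]
        exact eq_inv_of_mul_eq_one_left (by rw [mul_assoc, ← pow_three, ← hy, pow_orderOf_eq_one])
  by_cases heven : 2 ∣ orderOf g
  · have hu : orderOf (g ^ (orderOf g / 2)) = 2 :=
      orderOf_pow_orderOf_div hord.ne' heven
    have h384 : cz g ∣ 384 := hH.cInv _ hu ▸ cz_dvd_cz_pow g _
    have hdg := orderOf_dvd_cz g
    have hne : cz g ≠ 6 := by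
      intro e
      rw [e] at hdg
      have h6 : orderOf g = 6 := by
        have := Nat.le_of_dvd (by norm_num) hdg
        interval_cases h : orderOf g <;> omega
      rw [h6] at hu
      have ha : orderOf (g ^ 4) = 3 := by
        rw [orderOf_pow' g (by norm_num), h6]; decide
      obtain ⟨x, hx, hx'⟩ := hfuse (g ^ 4) (g ^ 3) ha hu (by rw [← pow_add, ← pow_add])
      have hg : g = g ^ 3 * g ^ 4 := by
        rw [← pow_add, show 3 + 4 = 6 + 1 by norm_num, pow_succ, ← h6, pow_orderOf_eq_one, one_mul]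
      rcases hx' with h | h
      · exact hB (isConj_iff.2 ⟨x, by rw [hg, ← hx, ← h]; group⟩)
      · exact hB' (isConj_iff.2 ⟨x, by rw [hg, ← hx, ← h]; group⟩)
    have h8 : cz g ≠ 1 ∧ cz g ≠ 2 ∧ cz g ≠ 3 ∧ cz g ≠ 4 := by
      refine ⟨fun e => ?_, fun e => ?_, fun e => ?_, fun e => ?_⟩ <;> rw [e] at hdg <;>
        have := Nat.le_of_dvd (by norm_num) hdg
      any_goals omega
      have h4 : orderOf g ∣ 4 := hdg
      have := hH.four g (orderOf_dvd_iff_pow_eq_one.1 h4)
      omega
    have hm : ∀ d ∈ Nat.divisors 384, d = 1 ∨ d = 2 ∨ d = 3 ∨ d = 4 ∨ d = 6 ∨ d ∈ rest := by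
      decide +kernel
    rcases hm _ (Nat.mem_divisors.2 ⟨h384, by norm_num⟩) with h | h | h | h | h | h
    all_goals first | exact h | omega
  · -- odd order
    have h1152 : orderOf g ∣ 1152 := (orderOf_dvd_cz g).trans hc
    have h9 : orderOf g ∣ 9 := by
      rw [show (1152 : ℕ) = 128 * 9 by norm_num] at h1152
      refine Nat.Coprime.dvd_of_dvd_mul_left ?_ h1152
      rw [show (128 : ℕ) = 2 ^ 7 by norm_num]
      exact Nat.Coprime.pow_right 7 ((Nat.Prime.coprime_iff_not_dvd Nat.prime_two).2 heven).symm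
    have h9c := nine_dvd_cz hH h9
    have hodd : ¬ 2 ∣ cz g := by
      intro hd
      haveI : Fact (Nat.Prime 2) := ⟨Nat.prime_two⟩
      obtain ⟨u, hu⟩ := exists_prime_orderOf_dvd_card' (G := centralizer ({g} : Set G)) 2 hd
      have hug : orderOf g ∣ 384 := by
        rw [← hH.cInv (u : G) (by rw [Subgroup.orderOf_coe, hu])]
        exact (centralizer ({(u : G)} : Set G)).orderOf_dvd_natCard
          (mem_cz_iff.2 (mem_cz_iff.1 u.2).symm)
      have h3 : orderOf g = 3 := by
        have := Nat.dvd_gcd h9 hug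
        rw [show Nat.gcd 9 384 = 3 by decide] at this
        exact ((Nat.dvd_prime Nat.prime_three).1 this).resolve_left hn1
      obtain ⟨x, -, hx⟩ := hfuse g u h3 (by rw [Subgroup.orderOf_coe, hu]) (mem_cz_iff.1 u.2)
      rcases hx with h | h
      exacts [hA (isConj_iff.2 ⟨x, h⟩), hA' (isConj_iff.2 ⟨x, h⟩)]
    have hm : ∀ d ∈ Nat.divisors 1152, 9 ∣ d → ¬ 2 ∣ d → d ∈ rest := by decide +kernel
    exact hm _ (Nat.mem_divisors.2 ⟨hc, by norm_num⟩) h9c hodd

theorem card_fiber [Fintype G] [DecidableEq (ConjClasses G)] (g : G) :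
    (Finset.univ.filter fun x => ConjClasses.mk x = ConjClasses.mk g).card = 443520 / cz g ∨
      Nat.card G ≠ 443520 := by
  classical
  by_cases hG : Nat.card G = 443520
  swap
  · exact Or.inr hG
  left
  have e : (Finset.univ.filter fun x => ConjClasses.mk x = ConjClasses.mk g) =
      Finset.univ.filter fun x => IsConj g x := by
    ext x
    simp only [Finset.mem_filter, ConjClasses.mk_eq_mk_iff_isConj]
    exact and_congr_right fun _ => isConj_comm
  rw [e, H83.classSize_eq_index]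
  have := H83.classSize_mul_centralizer (G := G) g
  rw [hG] at this
  exact (Nat.div_eq_of_eq_mul_left Nat.card_pos this.symm).symm

/-- The class equation with the known classes and the rest. -/
theorem class_facts (hH : Hyp G) {y z : G} (hy : orderOf y = 3) (hz : orderOf z = 2)
    (hyz : z * y = y * z) :
    cz y = 36 ∧ IsConj y y⁻¹ ∧ ∀ g : G, orderOf g ∣ 9 → g ≠ 1 → IsConj g y := by
  classical
  haveI := Fintype.ofFinite G
  haveI : Finite (ConjClasses G) := Finite.of_surjective _ ConjClasses.mk_surjective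
  haveI : Fintype (ConjClasses G) := Fintype.ofFinite _
  have hcard : Fintype.card (ConjClasses G) = 12 := by
    rw [← Nat.card_eq_fintype_card, hH.classes]
  obtain ⟨x5, h5⟩ := exists_prime_orderOf_dvd_card' (G := G) 5 (hp := ⟨by norm_num⟩) (by rw [hH.card]; norm_num)
  obtain ⟨x7, h7⟩ := exists_prime_orderOf_dvd_card' (G := G) 7 (hp := ⟨by norm_num⟩) (by rw [hH.card]; norm_num)
  obtain ⟨xe, he⟩ := exists_prime_orderOf_dvd_card' (G := G) 11 (hp := ⟨by norm_num⟩) (by rw [hH.card]; norm_num)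
  obtain ⟨hzy6, hzyC⟩ := prod_facts hz hy hyz
  obtain ⟨hD, -, hK, hcase⟩ := three_facts hH hy hz hyz
  have hwzy : cz (z * y) * 3 = cz y := by rw [← hD, cz, hzyC]
  have hinvzy := inv_pair hz hyz
  let w : ConjClasses G → ℕ := fun C => (Finset.univ.filter fun x => ConjClasses.mk x = C).card
  have hw : ∀ g, w (ConjClasses.mk g) = 443520 / cz g := fun g =>
    (card_fiber g).resolve_right (fun h => h hH.card)
  have htot : ∑ C, w C = 443520 := by
    rw [← Finset.card_eq_sum_card_fiberwise (fun x _ => Finset.mem_univ _), Finset.card_univ,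
      ← Nat.card_eq_fintype_card, hH.card]
  have hne : ∀ a b : G, orderOf a ≠ orderOf b → ConjClasses.mk a ≠ ConjClasses.mk b :=
    fun a b h e => h (orderOf_conj (ConjClasses.mk_eq_mk_iff_isConj.1 e))
  have hne' : ∀ a b : G, ¬ IsConj a b → ConjClasses.mk a ≠ ConjClasses.mk b :=
    fun a b h e => h (ConjClasses.mk_eq_mk_iff_isConj.1 e)
  have hs7 := (conj_or_inv hH (Or.inl ⟨rfl, rfl⟩) h7 h7).2
  have hse := (conj_or_inv hH (Or.inr ⟨rfl, rfl⟩) he he).2
  let L : List G := [1, z, x5, x7, x7⁻¹, xe, xe⁻¹, y, z * y]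
  have hL7 : orderOf x7⁻¹ = 7 := by rw [orderOf_inv, h7]
  have hLe : orderOf xe⁻¹ = 11 := by rw [orderOf_inv, he]
  have hLy : orderOf y⁻¹ = 3 := by rw [orderOf_inv, hy]
  have hLzy : orderOf (z * y⁻¹) = 6 := by rw [← hinvzy, orderOf_inv, hzy6]
  have hL : (L.map ConjClasses.mk).Nodup := by
    simp only [L, List.map_cons, List.map_nil, List.nodup_cons, List.mem_cons, List.not_mem_nil,
      or_false, not_or, List.nodup_nil, and_true, not_false_eq_true]
    refine ⟨⟨?_, ?_, ?_, ?_, ?_, ?_, ?_, ?_⟩, ⟨?_, ?_, ?_, ?_, ?_, ?_, ?_⟩, ⟨?_, ?_, ?_, ?_, ?_, ?_⟩,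
      ⟨?_, ?_, ?_, ?_, ?_⟩, ⟨?_, ?_, ?_, ?_⟩, ⟨?_, ?_, ?_⟩, ⟨?_, ?_⟩, ?_⟩
    all_goals first
      | exact hne' _ _ hs7
      | exact hne' _ _ hse
      | exact hne _ _ (by simp [orderOf_one, hz, h5, h7, he, hy, hzy6, hL7, hLe])
  have hrest : ∀ g, ConjClasses.mk g ∉ L.map ConjClasses.mk → ConjClasses.mk g ≠ ConjClasses.mk y⁻¹ →
      ConjClasses.mk g ≠ ConjClasses.mk (z * y⁻¹) → cz g ∈ rest := by
    intro g hg hy' hzy'
    simp only [L, List.map_cons, List.map_nil, List.mem_cons, List.not_mem_nil, or_false, not_or] at hg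
    obtain ⟨g1, g2, g5, g7, g7', ge, ge', gy, gzy⟩ := hg
    refine mem_rest hH hy hz hyz (fun e => g1 (by rw [e]))
      (fun e => g2 (ConjClasses.mk_eq_mk_iff_isConj.2 (hH.invConj g z e hz))) ?_
      (fun h => gy (ConjClasses.mk_eq_mk_iff_isConj.2 h)) (fun h => hy' (ConjClasses.mk_eq_mk_iff_isConj.2 h))
      (fun h => gzy (ConjClasses.mk_eq_mk_iff_isConj.2 h)) (fun h => hzy' (ConjClasses.mk_eq_mk_iff_isConj.2 h))
    rintro p (rfl | rfl | rfl) e
    · exact g5 (ConjClasses.mk_eq_mk_iff_isConj.2 (conj_five hH h5 e))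
    · rcases (conj_or_inv hH (Or.inl ⟨rfl, rfl⟩) h7 e).1 with h | h
      exacts [g7 (ConjClasses.mk_eq_mk_iff_isConj.2 h), g7' (ConjClasses.mk_eq_mk_iff_isConj.2 h)]
    · rcases (conj_or_inv hH (Or.inr ⟨rfl, rfl⟩) he e).1 with h | h
      exacts [ge (ConjClasses.mk_eq_mk_iff_isConj.2 h), ge' (ConjClasses.mk_eq_mk_iff_isConj.2 h)]
  have c5 : cz x5 = 5 := (self_cent hH (Or.inl ⟨rfl, rfl⟩) h5).1
  have c7 : cz x7 = 7 := (self_cent hH (Or.inr (Or.inl ⟨rfl, rfl⟩)) h7).1
  have ce : cz xe = 11 := (self_cent hH (Or.inr (Or.inr ⟨rfl, rfl⟩)) he).1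
  have c2 : cz z = 384 := hH.cInv z hz
  have c1 : cz (1 : G) = 443520 := by
    have e : centralizer ({1} : Set G) = ⊤ := by
      ext g; simp [mem_cz_iff]
    rw [cz, e, Subgroup.card_top, hH.card]
  have hdiv : 443520 / cz (z * y) = 3 * (443520 / cz y) := by
    have hall : ∀ c ∈ [18, 72, 288, 1152, 36, 144, 576],
        443520 / (c / 3) = 3 * (443520 / c) := by decide +kernel
    have := hall (cz y) (by rcases hcase with ⟨-, h⟩ | ⟨-, h⟩ <;> revert h <;> simp <;> omega)
    rwa [← hwzy, Nat.mul_div_cancel _ (by norm_num : 0 < 3), hwzy] at this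
  set T := (L.map ConjClasses.mk).toFinset with hT
  have hTcard : T.card = 9 := by rw [hT, List.toFinset_card_of_nodup hL]; rfl
  have hTsum : ∑ C ∈ T, w C = 297220 + 4 * (443520 / cz y) := by
    rw [hT, List.sum_toFinset _ hL]
    simp only [L, List.map_cons, List.map_nil, List.sum_cons, List.sum_nil, hw, cz_inv, c1, c2, c5,
      c7, ce, hdiv]
    omega
  rcases hcase with ⟨hnr, hmem⟩ | ⟨hre, hmem⟩
  · exfalso
    have hnzy : ¬ IsConj (z * y) (z * y⁻¹) := by
      intro h
      obtain ⟨x, hx⟩ := isConj_iff.1 h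
      apply hnr
      refine isConj_iff.2 ⟨x, ?_⟩
      have h4 := congrArg (· ^ 4) hx
      simp only [conj_pow] at h4
      have e4 : ∀ a : G, orderOf a = 3 → Commute z a → (z * a) ^ 4 = a := fun a ha hc => by
        rw [hc.mul_pow, show 4 = 2 * 2 by norm_num, pow_mul, show z ^ 2 = 1 by rw [← hz, pow_orderOf_eq_one],
          one_pow, one_mul, show 2 * 2 = 3 + 1 by norm_num, pow_succ,
          show a ^ 3 = 1 by rw [← ha, pow_orderOf_eq_one], one_mul]
      rwa [e4 y hy hyz, e4 y⁻¹ hLy (Commute.inv_right hyz)] at h4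
    set T' := insert (ConjClasses.mk y⁻¹) (insert (ConjClasses.mk (z * y⁻¹)) T)
    have hn1 : ConjClasses.mk (z * y⁻¹) ∉ T := by
      simp only [hT, List.mem_toFinset, L, List.map_cons, List.map_nil, List.mem_cons, List.not_mem_nil,
        or_false, not_or]
      refine ⟨?_, ?_, ?_, ?_, ?_, ?_, ?_, ?_, ?_⟩
      all_goals first
        | exact fun e => hne' _ _ hnzy e.symm
        | exact hne _ _ (by simp [orderOf_one, hz, h5, h7, he, hy, hLzy, hL7, hLe])
    have hn2 : ConjClasses.mk y⁻¹ ∉ insert (ConjClasses.mk (z * y⁻¹)) T := by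
      simp only [hT, Finset.mem_insert, List.mem_toFinset, L, List.map_cons, List.map_nil, List.mem_cons,
        List.not_mem_nil, or_false, not_or]
      refine ⟨?_, ?_, ?_, ?_, ?_, ?_, ?_, ?_, ?_, ?_⟩
      all_goals first
        | exact fun e => hne' _ _ hnr e.symm
        | exact hne _ _ (by simp [orderOf_one, hz, h5, h7, he, hzy6, hLy, hLzy, hL7, hLe])
    have hT'c : T'.card = 11 := by
      rw [Finset.card_insert_of_notMem hn2, Finset.card_insert_of_notMem hn1, hTcard]
    obtain ⟨C, hC⟩ : ∃ C, Finset.univ \ T' = {C} := by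
      rw [← Finset.card_eq_one, Finset.card_univ_sdiff, hcard, hT'c]
    obtain ⟨g, rfl⟩ := ConjClasses.mk_surjective C
    have hgn : ConjClasses.mk g ∉ T' := by
      have : ConjClasses.mk g ∈ Finset.univ \ T' := by rw [hC]; simp
      exact (Finset.mem_sdiff.1 this).2
    simp only [T', Finset.mem_insert, not_or, hT, List.mem_toFinset] at hgn
    have hr := hrest g hgn.2.2 hgn.1 hgn.2.1
    have hsum := Finset.sum_sdiff (f := w) (Finset.subset_univ T')
    rw [hC, Finset.sum_singleton, Finset.sum_insert hn2, Finset.sum_insert hn1, hTsum, htot, hw, hw, hw,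
      cz_inv, ← hinvzy, cz_inv, hdiv] at hsum
    exact table_nonreal _ hr _ hmem (by omega)
  · have hrzy : ConjClasses.mk (z * y⁻¹) = ConjClasses.mk (z * y) := by
      obtain ⟨x, hx⟩ := isConj_iff.1 hre
      have hu : orderOf (x * z * x⁻¹) = 2 := (orderOf_conj (isConj_iff.2 ⟨x, rfl⟩)).symm.trans hz
      have huy : x * z * x⁻¹ * y = y * (x * z * x⁻¹) := by
        have h : Commute (x * z * x⁻¹) (x * y * x⁻¹) := (Commute.conj_iff x).2 hyz
        rw [hx] at h
        simpa using h.inv_right.eq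
      obtain ⟨k, hk1, hk2⟩ := hK _ hu huy
      rw [ConjClasses.mk_eq_mk_iff_isConj]
      refine (isConj_iff.2 ⟨k⁻¹ * x, ?_⟩ : IsConj (z * y) (z * y⁻¹)).symm
      have hky : k⁻¹ * y⁻¹ * k = y⁻¹ := by
        rw [show k⁻¹ * y⁻¹ * k = (k⁻¹ * y * k)⁻¹ by group]
        rw [mul_assoc, ← hk1, inv_mul_cancel_left]
      calc k⁻¹ * x * (z * y) * (k⁻¹ * x)⁻¹
          = k⁻¹ * (x * z * x⁻¹) * k * (k⁻¹ * (x * y * x⁻¹) * k) := by group
        _ = z * y⁻¹ := by rw [hx, hky, ← hk2]; group
    have hry : ConjClasses.mk y⁻¹ = ConjClasses.mk y := (ConjClasses.mk_eq_mk_iff_isConj.2 hre).symm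
    have hrest' : ∀ g, ConjClasses.mk g ∉ T → cz g ∈ rest := by
      intro g hg
      rw [hT, List.mem_toFinset] at hg
      refine hrest g hg ?_ ?_
      · rw [hry]; exact fun e => hg (by rw [e]; simp [L])
      · rw [hrzy]; exact fun e => hg (by rw [e]; simp [L])
    obtain ⟨A, B, D, hAB, hAD, hBD, hR⟩ : ∃ A B D, A ≠ B ∧ A ≠ D ∧ B ≠ D ∧
        Finset.univ \ T = {A, B, D} := by
      rw [← Finset.card_eq_three, Finset.card_univ_sdiff, hcard, hTcard]
    have hout : ∀ C ∈ ({A, B, D} : Finset (ConjClasses G)), C ∉ T := fun C hC =>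
      (Finset.mem_sdiff.1 (hR ▸ hC : C ∈ Finset.univ \ T)).2
    obtain ⟨a, rfl⟩ := ConjClasses.mk_surjective A
    obtain ⟨b, rfl⟩ := ConjClasses.mk_surjective B
    obtain ⟨d, rfl⟩ := ConjClasses.mk_surjective D
    have hsum := Finset.sum_sdiff (f := w) (Finset.subset_univ T)
    rw [hR, Finset.sum_insert (by simp [hAB, hAD]), Finset.sum_insert (by simp [hBD]),
      Finset.sum_singleton, hTsum, htot, hw, hw, hw] at hsum
    obtain ⟨h36, ha, hb, hd⟩ := table_real _ (hrest' a (hout _ (by simp))) _ (hrest' b (hout _ (by simp)))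
      _ (hrest' d (hout _ (by simp))) _ hmem (by omega)
    refine ⟨h36, hre, fun g hg hg1 => ?_⟩
    have hg39 : orderOf g = 3 ∨ orderOf g = 9 := by
      have h1 : orderOf g ≠ 1 := fun e => hg1 (orderOf_eq_one_iff.1 e)
      have h2 := Nat.le_of_dvd (by norm_num) hg
      have h3 : ∀ d ∈ Nat.divisors 9, d = 1 ∨ d = 3 ∨ d = 9 := by decide +kernel
      exact (h3 _ (Nat.mem_divisors.2 ⟨hg, by norm_num⟩)).resolve_left h1
    by_cases hgT : ConjClasses.mk g ∈ T
    · simp only [hT, List.mem_toFinset, L, List.map_cons, List.map_nil, List.mem_cons, List.not_mem_nil,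
        or_false] at hgT
      rcases hgT with h | h | h | h | h | h | h | h | h <;>
        first
        | exact ConjClasses.mk_eq_mk_iff_isConj.1 h
        | exact absurd h (hne _ _ (by rcases hg39 with e | e <;> simp [orderOf_one, e, hz, h5, h7, he, hzy6, hL7, hLe]))
    · exfalso
      have hmem' : ConjClasses.mk g ∈ ({ConjClasses.mk a, ConjClasses.mk b, ConjClasses.mk d} : Finset _) := by
        rw [← hR]; simp [hgT]
      have h9 := nine_dvd_cz hH (g := g) hg
      have hr9 : cz g = 9 := by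
        have h := hrest' g hgT
        simp only [rest, List.mem_cons, List.not_mem_nil, or_false] at h
        omega
      simp only [Finset.mem_insert, Finset.mem_singleton, ConjClasses.mk_eq_mk_iff_isConj] at hmem'
      rcases hmem' with h | h | h
      · exact ha ((cz_conj h).symm.trans hr9)
      · exact hb ((cz_conj h).symm.trans hr9)
      · exact hd ((cz_conj h).symm.trans hr9)

end Cfsg.Agent.H69.MTwentyTwo.Back
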