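import Cfsg.Agent.H69.MTwentyTwo.Back.Lines

/-!
The centralizer of an involution modulo its largest normal two-subgroup: a group of order six.
-/

set_option autoImplicit false

namespace Cfsg.Agent.H69.MTwentyTwo.Back

open Subgroup

variable {G : Type*} [Group G] [Finite G]

/-- An element of two-power order of a group of order six commuting with an element of order three
inverted by some element is trivial. -/
theorem eq_one_of_comm {Q : Type*} [Group Q] [Finite Q] (hQ : Nat.card Q = 6) {y s u : Q} (hy : y ^ 3 = 1)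
    (hy1 : y ≠ 1) (hs : s * y * s⁻¹ = y⁻¹) {k : ℕ} (hu : u ^ 2 ^ k = 1) (hc : u * y = y * u) : u = 1 := by
  by_contra hu1
  have ho3 : orderOf y = 3 := by
    have := orderOf_dvd_of_pow_eq_one hy
    exact ((Nat.dvd_prime Nat.prime_three).1 this).resolve_left fun e => hy1 (orderOf_eq_one_iff.1 e)
  obtain ⟨i, hi, hio⟩ := (Nat.dvd_prime_pow Nat.prime_two).1 (orderOf_dvd_of_pow_eq_one hu)
  have hd : orderOf u ∣ 6 := hQ ▸ orderOf_dvd_natCard u
  have hi1 : orderOf u = 2 := by
    have h0 : i ≠ 0 := fun e => hu1 (orderOf_eq_one_iff.1 (by rw [hio, e, pow_zero]))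
    rw [hio] at hd ⊢
    by_cases h1 : i = 1
    · rw [h1]; norm_num
    · have h4 : 4 ∣ 2 ^ i := by
        rw [show (4 : ℕ) = 2 ^ 2 by norm_num]
        exact pow_dvd_pow 2 (by omega)
      have := h4.trans hd
      norm_num at this
  have h6 : orderOf (u * y) = 6 := by
    rw [(show Commute u y from hc).orderOf_mul_eq_mul_orderOf_of_coprime (by rw [hi1, ho3]; norm_num), hi1, ho3]
  have htop : zpowers (u * y) = ⊤ := Subgroup.eq_top_of_card_eq _ (by rw [Nat.card_zpowers, h6, hQ])
  have hcom : ∀ a b : Q, a * b = b * a := by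
    intro a b
    obtain ⟨m, rfl⟩ := mem_zpowers_iff.1 (htop.symm ▸ mem_top a : a ∈ zpowers (u * y))
    obtain ⟨n, rfl⟩ := mem_zpowers_iff.1 (htop.symm ▸ mem_top b : b ∈ zpowers (u * y))
    exact ((Commute.refl (u * y)).zpow_zpow m n).eq
  rw [hcom s y, mul_assoc, mul_inv_cancel, mul_one] at hs
  have : y ^ 2 = 1 := by rw [pow_two]; nth_rewrite 2 [hs]; exact mul_inv_cancel y
  have := orderOf_dvd_of_pow_eq_one this
  rw [ho3] at this
  norm_num at this

/-- The core of the centralizer of an involution. -/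
theorem exists_core (hH : Hyp G) {y z s : G} (hy : orderOf y = 3) (hz : orderOf z = 2)
    (hyz : z * y = y * z) (hs : s * z = z * s) (hsy : s * y * s⁻¹ = y⁻¹) :
    ∃ Q : Subgroup G, Q ≤ centralizer ({z} : Set G) ∧ Nat.card Q = 64 ∧
      (∀ c ∈ centralizer ({z} : Set G), ∀ q ∈ Q, c * q * c⁻¹ ∈ Q) ∧
      (∀ (a : G) (k : ℕ), a * z = z * a → a * y = y * a → a ^ 2 ^ k = 1 → a ∈ Q) ∧
      (∀ (R : Subgroup G) (k : ℕ), R ≤ centralizer ({z} : Set G) → Nat.card R = 2 ^ k →
        (∀ a ∈ R, y * a * y⁻¹ ∈ R) → R ≤ Q) ∧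
      (∀ N : Subgroup G, Q ≤ N → y ∈ N → s ∈ N → centralizer ({z} : Set G) ≤ N) := by
  haveI : Fact (Nat.Prime 2) := ⟨Nat.prime_two⟩
  set C := centralizer ({z} : Set G) with hCdef
  have hC : Nat.card C = 384 := hH.cInv z hz
  obtain ⟨S, hS⟩ := Sylow.exists_subgroup_card_pow_prime (G := C) 2 (n := 7) (by rw [hC]; norm_num)
  have hSi : S.index = 3 := by
    have := S.card_mul_index
    rw [hS, hC] at this
    omega
  set N0 := S.normalCore with hN0
  haveI : N0.Normal := Subgroup.normalCore_normal S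
  have hd6 : N0.index ∣ 6 := by
    rw [hN0, Subgroup.normalCore_eq_ker, Subgroup.index_ker]
    refine (Subgroup.card_subgroup_dvd_card _).trans ?_
    classical
    haveI := Fintype.ofFinite (C ⧸ S)
    rw [Nat.card_eq_fintype_card, Fintype.card_perm, ← Nat.card_eq_fintype_card, ← Subgroup.index_eq_card, hSi]
    decide
  have hd3 : 3 ∣ N0.index := hSi ▸ Subgroup.index_dvd_of_le (Subgroup.normalCore_le S)
  let π := QuotientGroup.mk' N0
  let yC : C := ⟨y, mem_cz_iff.2 hyz.symm⟩
  let sC : C := ⟨s, mem_cz_iff.2 hs⟩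
  have hy3 : π yC ^ 3 = 1 := by
    rw [← map_pow]
    convert map_one π
    exact Subtype.ext (by
      show y ^ 3 = 1
      rw [← hy]; exact pow_orderOf_eq_one y)
  have hyn : π yC ≠ 1 := by
    intro e
    have hm : yC ∈ N0 := (QuotientGroup.eq_one_iff yC).1 e
    have h2 : orderOf yC ∣ 2 ^ 7 := hS ▸ S.orderOf_dvd_natCard (Subgroup.normalCore_le S hm)
    rw [← Subgroup.orderOf_coe] at h2
    change orderOf y ∣ 2 ^ 7 at h2
    rw [hy] at h2
    norm_num at h2
  have hsyC : π sC * π yC * (π sC)⁻¹ = (π yC)⁻¹ := by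
    rw [← map_inv, ← map_inv, ← map_mul, ← map_mul]
    congr 1
    exact Subtype.ext hsy
  have hcard : Nat.card (C ⧸ N0) = N0.index := rfl
  have h6 : N0.index = 6 := by
    have hcases : N0.index = 3 ∨ N0.index = 6 := by
      have := Nat.le_of_dvd (by norm_num) hd6
      obtain ⟨m, hm⟩ := hd3
      have : N0.index ≠ 0 := Subgroup.index_ne_zero_of_finite
      omega
    refine hcases.resolve_left fun h3 => ?_
    haveI : IsCyclic (C ⧸ N0) := isCyclic_of_prime_card (hp := ⟨Nat.prime_three⟩) (hcard.trans h3)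
    letI : CommGroup (C ⧸ N0) := IsCyclic.commGroup
    rw [mul_comm (π sC), mul_assoc, mul_inv_cancel, mul_one] at hsyC
    have h : π yC ^ 2 = 1 := by rw [pow_two]; nth_rewrite 2 [hsyC]; exact mul_inv_cancel _
    apply hyn
    rw [pow_succ, h, one_mul] at hy3
    exact hy3
  have hQ6 : Nat.card (C ⧸ N0) = 6 := hcard.trans h6
  set Q := N0.map C.subtype with hQ
  have hQC : Q ≤ C := Subgroup.map_subtype_le N0
  have hQ64 : Nat.card Q = 64 := by
    have := N0.card_mul_index
    rw [h6, hC] at this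
    rw [hQ, Subgroup.card_subtype]
    omega
  have hmem : ∀ (a : C), (a : G) ∈ Q ↔ a ∈ N0 := fun a =>
    Subgroup.mem_map_iff_mem (f := C.subtype) C.subtype_injective
  have hcomm : ∀ (a : G) (k : ℕ), a * z = z * a → a * y = y * a → a ^ 2 ^ k = 1 → a ∈ Q := by
    intro a k haz hay hak
    refine (hmem ⟨a, mem_cz_iff.2 haz⟩).2 ((QuotientGroup.eq_one_iff _).1 ?_)
    refine eq_one_of_comm hQ6 hy3 hyn hsyC (k := k) (u := π ⟨a, mem_cz_iff.2 haz⟩) ?_ ?_
    · rw [← map_pow, show (⟨a, mem_cz_iff.2 haz⟩ : C) ^ 2 ^ k = 1 from Subtype.ext hak, map_one]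
    · rw [← map_mul, ← map_mul]
      congr 1
      exact Subtype.ext hay
  refine ⟨Q, hQC, hQ64, ?_, hcomm, ?_, ?_⟩
  · intro c hc q hq
    have := (Subgroup.normalCore_normal S).conj_mem _ ((hmem ⟨q, hQC hq⟩).1 hq) ⟨c, hc⟩
    exact (hmem _).2 this
  · intro R k hR hRk hRy
    set R' := (R.subgroupOf C).map π with hR'
    have hd : Nat.card R' ∣ 2 := by
      have h1 : Nat.card R' ∣ 2 ^ k := by
        refine (Subgroup.card_map_dvd _ _).trans (dvd_of_eq ?_)
        rw [Nat.card_congr (Subgroup.subgroupOfEquivOfLe hR).toEquiv, hRk]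
      have h2 : Nat.card R' ∣ 6 := hQ6 ▸ Subgroup.card_subgroup_dvd_card R'
      rcases k with _ | k
      · rw [pow_zero] at h1; exact h1.trans (one_dvd 2)
      · have := Nat.dvd_gcd h1 h2
        rw [show Nat.gcd (2 ^ (k + 1)) 6 = 2 by
          rw [pow_succ, show 6 = 3 * 2 by norm_num, Nat.gcd_mul_right,
            Nat.Coprime.gcd_eq_one (Nat.Coprime.pow_left k (by norm_num))]] at this
        exact this
    intro a ha
    by_contra han
    have hne : π ⟨a, hR ha⟩ ≠ 1 := fun e => han ((hmem ⟨a, hR ha⟩).2 ((QuotientGroup.eq_one_iff _).1 e))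
    have hu : π ⟨a, hR ha⟩ ∈ R' := ⟨⟨a, hR ha⟩, ha, rfl⟩
    have hu' : π yC * π ⟨a, hR ha⟩ * (π yC)⁻¹ ∈ R' := by
      refine ⟨yC * ⟨a, hR ha⟩ * yC⁻¹, hRy a ha, ?_⟩
      simp
    have h2 : Nat.card R' = 2 := ((Nat.dvd_prime Nat.prime_two).1 hd).resolve_left fun e => hne (by
      rw [Subgroup.card_eq_one] at e
      rw [e] at hu
      exact hu)
    have hcm : π yC * π ⟨a, hR ha⟩ * (π yC)⁻¹ = π ⟨a, hR ha⟩ := by
      obtain ⟨w, w', -, hw⟩ := Nat.card_eq_two_iff.1 h2
      have huniq : ∀ t t' : R', t ≠ 1 → t' ≠ 1 → t = t' := by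
        intro t t' ht ht'
        have e : ∀ t : R', t = w ∨ t = w' := fun t => by
          have := hw.symm ▸ Set.mem_univ t; simpa using this
        rcases e t with h | h <;> rcases e t' with h' | h' <;> rcases e 1 with h'' | h'' <;>
          first
          | exact h.trans h'.symm
          | exact absurd (h.trans h''.symm) ht
          | exact absurd (h'.trans h''.symm) ht'
      exact congrArg Subtype.val (huniq ⟨_, hu'⟩ ⟨_, hu⟩ (fun e => hne (conj_eq_one_iff.1 (congrArg Subtype.val e)))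
        (fun e => hne (congrArg Subtype.val e)))
    refine hne (eq_one_of_comm hQ6 hy3 hyn hsyC (k := 1) ?_ (mul_inv_eq_iff_eq_mul.1 hcm).symm)
    have := pow_card_eq_one' (x := (⟨_, hu⟩ : R'))
    rw [h2] at this
    simpa using congrArg Subtype.val this
  · intro N hQN hyN hsN c hc
    set N' := (N.subgroupOf C).map π with hN'
    have hsub : N' = ⊤ := by
      refine Subgroup.eq_top_of_card_eq _ ?_
      rw [hQ6]
      have hyN' : π yC ∈ N' := ⟨yC, hyN, rfl⟩
      have hsN' : π sC ∈ N' := ⟨sC, hsN, rfl⟩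
      have hd : Nat.card N' ∣ 6 := hQ6 ▸ Subgroup.card_subgroup_dvd_card N'
      by_contra hne
      have hcc : IsCyclic N' := by
        have := Nat.le_of_dvd (by norm_num) hd
        have h0 : 0 < Nat.card N' := Nat.card_pos
        rcases (show Nat.card N' = 1 ∨ Nat.card N' = 2 ∨ Nat.card N' = 3 by
          interval_cases h : Nat.card N' <;> omega) with h | h | h
        · haveI : Subsingleton N' := (Nat.card_eq_one_iff_unique.1 h).1
          exact isCyclic_of_subsingleton
        · exact isCyclic_of_prime_card (hp := ⟨Nat.prime_two⟩) h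
        · exact isCyclic_of_prime_card (hp := ⟨Nat.prime_three⟩) h
      letI : CommGroup N' := IsCyclic.commGroup
      have e := congrArg Subtype.val (mul_comm (⟨_, hsN'⟩ : N') ⟨_, hyN'⟩)
      simp only [Subgroup.coe_mul] at e
      rw [e, mul_assoc, mul_inv_cancel, mul_one] at hsyC
      apply hyn
      have h : π yC ^ 2 = 1 := by rw [pow_two]; nth_rewrite 2 [hsyC]; exact mul_inv_cancel _
      rw [pow_succ, h, one_mul] at hy3
      exact hy3
    obtain ⟨n, hn, he⟩ : π ⟨c, hc⟩ ∈ N' := hsub ▸ Subgroup.mem_top _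
    have hq : n⁻¹ * ⟨c, hc⟩ ∈ N0 := QuotientGroup.eq.1 he
    have h2 : ((n⁻¹ * ⟨c, hc⟩ : C) : G) ∈ N := hQN ((hmem _).2 hq)
    have := N.mul_mem hn h2
    simpa using this

end Cfsg.Agent.H69.MTwentyTwo.Back
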