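import Cfsg.Agent.H69.MTwentyTwo.Back.Core
import Mathlib.GroupTheory.Nilpotent

/-!
The subgroup of order sixteen with normalizer of index 77.
-/

set_option autoImplicit false

namespace Cfsg.Agent.H69.MTwentyTwo.Back

open Subgroup

variable {G : Type*} [Group G] [Finite G]

theorem Adj.congr {P : Subgroup G} (hP : Nine G P) {x p p' : G} (h : Adj P x p') (hp : p ∈ P) (hp1 : p ≠ 1)
    (hmem : p' ∈ zpowers p) : Adj P x p := by
  refine ⟨h.1, h.2.1, hp, fun hm => h.2.2.2.1 ((zpowers_le.2 hm) hmem), ?_⟩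
  rw [← V_eq_of_mem hP hp hp1 h.ne_one hmem]
  exact h.2.2.2.2

/-- An invariant two-subgroup with only the given fixed points grows by a multiple of three. -/
theorem three_dvd_diff {y : G} (hy : orderOf y = 3) {A D : Subgroup G} (hDA : D ≤ A)
    (hA : ∀ a ∈ A, y * a * y⁻¹ ∈ A) (hD : ∀ a ∈ D, y * a * y⁻¹ ∈ D)
    (hfix : ∀ a ∈ A, a * y = y * a → a ∈ D) : 3 ∣ Nat.card A - Nat.card D := by
  classical
  haveI := Fintype.ofFinite G
  set s := Finset.univ.filter fun a => a ∈ A ∧ a ∉ D with hs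
  have hpow : ∀ (n : ℕ) (B : Subgroup G), (∀ a ∈ B, y * a * y⁻¹ ∈ B) → ∀ a ∈ B, y ^ n * a * (y ^ n)⁻¹ ∈ B := by
    intro n B hB
    induction n with
    | zero => simp
    | succ n ih =>
      intro a ha
      have := hB _ (ih a ha)
      rw [show y * (y ^ n * a * (y ^ n)⁻¹) * y⁻¹ = y ^ (n + 1) * a * (y ^ (n + 1))⁻¹ by
        rw [pow_succ']; group] at this
      exact this
  have hmem : ∀ h ∈ zpowers y, ∃ n < 3, h = y ^ n := by
    intro h hh
    rw [mem_zpowers_iff_mem_range_orderOf, hy] at hh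
    simp only [Finset.mem_image, Finset.mem_range] at hh
    obtain ⟨i, hi, rfl⟩ := hh
    exact ⟨i, hi, rfl⟩
  have h3 := dvd_card_of_free (zpowers y) s (fun h hh a ha => by
    obtain ⟨n, hn, rfl⟩ := hmem h hh
    simp only [hs, Finset.mem_filter, Finset.mem_univ, true_and] at ha ⊢
    refine ⟨hpow n A hA a ha.1, fun hc => ha.2 ?_⟩
    have h3n := hpow (3 - n) D hD _ hc
    rw [show y ^ (3 - n) * (y ^ n * a * (y ^ n)⁻¹) * (y ^ (3 - n))⁻¹ =
        (y ^ (3 - n) * y ^ n) * a * (y ^ (3 - n) * y ^ n)⁻¹ by group, ← pow_add,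
      show 3 - n + n = 3 by omega, ← hy, pow_orderOf_eq_one, one_mul, inv_one, mul_one] at h3n
    exact h3n) (fun h hh h1 a ha e => by
    obtain ⟨n, hn, rfl⟩ := hmem h hh
    simp only [hs, Finset.mem_filter, Finset.mem_univ, true_and] at ha
    refine ha.2 (hfix a ha.1 ?_)
    interval_cases n
    · exact absurd (pow_zero y) h1
    · rw [pow_one] at e; exact e.symm
    · have : Commute a ((y ^ 2) ^ 2) := (show Commute a (y ^ 2) from e.symm).pow_right 2
      rw [← pow_mul, show 2 * 2 = 3 + 1 by norm_num, pow_succ, ← hy, pow_orderOf_eq_one, one_mul] at this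
      exact this.eq)
  have hcard : s.card + Nat.card D = Nat.card A := by
    rw [Nat.card_eq_fintype_card, Nat.card_eq_fintype_card, Fintype.card_subtype, Fintype.card_subtype,
      ← Finset.card_union_of_disjoint (by simp [Finset.disjoint_left, hs])]
    congr 1
    ext a
    simp only [hs, Finset.mem_union, Finset.mem_filter, Finset.mem_univ, true_and]
    exact ⟨fun h => h.elim And.left (fun h => hDA h), fun h => (em (a ∈ D)).symm.imp (fun h' => ⟨h, h'⟩) id⟩
  rw [Nat.card_zpowers, hy] at h3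
  rw [show Nat.card A - Nat.card D = s.card by omega]
  exact h3

theorem exists_normalized {Q D : Subgroup G} (hDQ : D ≤ Q) (hne : D ≠ Q) {i : ℕ} (hQ : Nat.card Q = 2 ^ i) :
    D < Q ⊓ normalizer (D : Set G) := by
  haveI : Fact (Nat.Prime 2) := ⟨Nat.prime_two⟩
  haveI : Group.IsNilpotent Q := (IsPGroup.of_card hQ).isNilpotent
  have hlt : D.subgroupOf Q < ⊤ := by
    rw [lt_top_iff_ne_top, ne_eq, Subgroup.subgroupOf_eq_top]
    exact fun h => hne (le_antisymm hDQ h)
  have := normalizerCondition_of_isNilpotent _ hlt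
  obtain ⟨n, hn, hnD⟩ := SetLike.exists_of_lt this
  have hnN : (n : G) ∈ normalizer (D : Set G) := ?_
  · refine lt_of_le_of_ne (le_inf hDQ le_normalizer) fun e => hnD ?_
    have hm : (n : G) ∈ Q ⊓ normalizer (D : Set G) := Subgroup.mem_inf.2 ⟨n.2, hnN⟩
    rw [← e] at hm
    exact hm
  intro a
  constructor
  · intro ha
    exact (mem_normalizer_iff.1 hn ⟨a, hDQ ha⟩).1 ha
  · intro ha
    have hb : (n : G)⁻¹ * ((n : G) * a * (n : G)⁻¹) * (n : G) = a := by group
    have haQ : a ∈ Q := hb ▸ Q.mul_mem (Q.mul_mem (Q.inv_mem n.2) (hDQ ha)) n.2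
    exact (mem_normalizer_iff.1 hn ⟨a, haQ⟩).2 ha

/-- The subgroup of order sixteen. -/
theorem exists_E (hH : Hyp G) :
    ∃ E : Subgroup G, Nat.card E = 16 ∧ (normalizer (E : Set G)).index = 77 := by
  classical
  obtain ⟨y, z, hy, hz, hyz⟩ := exists_three_comm hH
  obtain ⟨-, hre, -⟩ := three_all hH hy
  obtain ⟨-, -, hK, -⟩ := three_facts hH hy hz hyz
  have hy1 : y ≠ 1 := fun e => by rw [e, orderOf_one] at hy; omega
  obtain ⟨hVcard, hVmem, hVsq, hVcomm, -, hV2⟩ := four_group hH hy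
  -- the inverter in the centralizer of `z`
  obtain ⟨s, hs, hsy⟩ : ∃ s, s * z = z * s ∧ s * y * s⁻¹ = y⁻¹ := by
    obtain ⟨g, hg⟩ := isConj_iff.1 hre
    have hu : orderOf (g * z * g⁻¹) = 2 := (orderOf_conj (isConj_iff.2 ⟨g, rfl⟩)).symm.trans hz
    have huy : g * z * g⁻¹ * y = y * (g * z * g⁻¹) := by
      have h : Commute (g * z * g⁻¹) (g * y * g⁻¹) := (Commute.conj_iff g).2 hyz
      rw [hg] at h
      simpa using h.inv_right.eq
    obtain ⟨k, hk1, hk2⟩ := hK _ hu huy
    refine ⟨k⁻¹ * g, ?_, ?_⟩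
    · calc k⁻¹ * g * z = k⁻¹ * (g * z * g⁻¹) * g := by group
        _ = z * (k⁻¹ * g) := by rw [← hk2]; group
    · rw [show k⁻¹ * g * y * (k⁻¹ * g)⁻¹ = k⁻¹ * (g * y * g⁻¹) * k by group, hg,
        show k⁻¹ * y⁻¹ * k = (k⁻¹ * y * k)⁻¹ by group, mul_assoc, ← hk1, inv_mul_cancel_left]
  obtain ⟨P, hP, hyP⟩ := exists_nine hH hy
  obtain ⟨Q, hQC, hQ64, hQn, hQmem, hQR, hQgen⟩ := exists_core hH hy hz hyz hs hsy
  set C := centralizer ({z} : Set G) with hC
  have hzV : z ∈ V y := (hVmem z).2 (Or.inr ⟨hz, hyz⟩)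
  have hz1 : z ≠ 1 := fun e => by rw [e, orderOf_one] at hz; omega
  set M := centralizer (V y : Set G) with hMdef
  have hMC : M ≤ C := centralizer_le (Set.singleton_subset_iff.2 hzV)
  have hyM : y ∈ M := fun a ha => by
    rcases (hVmem a).1 ha with rfl | h
    · simp
    · exact h.2
  have hVM : V y ≤ M := fun a ha b hb => hVcomm b hb a ha
  have hVy : ∀ v ∈ V y, v * y = y * v := fun v hv => (hyM v hv)
  have hVQ : V y ≤ Q := fun v hv => hQmem v 1
    (hVcomm v hv z hzV) (hVy v hv) (by rw [pow_one, pow_two, hVsq v hv])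
  have hMinv : ∀ t : G, (∀ v ∈ V y, t⁻¹ * v * t ∈ V y) → ∀ m ∈ M, t * m * t⁻¹ ∈ M := by
    intro t ht m hm v hv
    have h : t⁻¹ * v * t * m = m * (t⁻¹ * v * t) := hm _ (ht v hv)
    calc v * (t * m * t⁻¹) = t * (t⁻¹ * v * t * m) * t⁻¹ := by group
      _ = t * (m * (t⁻¹ * v * t)) * t⁻¹ := by rw [h]
      _ = t * m * t⁻¹ * v := by group
  have hMP : ∀ p ∈ P, ∀ m ∈ M, p * m * p⁻¹ ∈ M := fun p hp => hMinv p fun v hv => by
    have := hP.V_invariant hyP (inv_mem hp) hv
    simpa using this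
  have hMs : ∀ m ∈ M, s * m * s⁻¹ ∈ M := hMinv s fun v hv => by
    have hs' : s⁻¹ * y * s = y⁻¹ := by
      have := congrArg (fun t => s⁻¹ * t⁻¹ * s) hsy
      simpa [mul_assoc] using this.symm
    have h := conj_mem_V (g := s⁻¹) hv
    rw [inv_inv, hs', V_inv] at h
    exact h
  set W := Q ⊓ M with hW
  have hWQ : W ≤ Q := inf_le_left
  obtain ⟨i, hi6, hWi⟩ : ∃ i ≤ 6, Nat.card W = 2 ^ i :=
    (Nat.dvd_prime_pow Nat.prime_two).1 (show Nat.card W ∣ 2 ^ 6 by
      rw [show (2 : ℕ) ^ 6 = 64 by norm_num, ← hQ64]; exact card_dvd_of_le hWQ)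
  have hW64 : Nat.card W ≤ 64 := hQ64 ▸ Nat.le_of_dvd Nat.card_pos (card_dvd_of_le hWQ)
  have hRW : ∀ (R : Subgroup G) (k : ℕ), R ≤ M → Nat.card R = 2 ^ k → (∀ a ∈ R, y * a * y⁻¹ ∈ R) → R ≤ W :=
    fun R k hR hk hy' => le_inf (hQR R k (hR.trans hMC) hk hy') hR
  have hWy : ∀ a ∈ W, y * a * y⁻¹ ∈ W := fun a ha =>
    ⟨hQn y (hMC hyM) a ha.1, M.mul_mem (M.mul_mem hyM ha.2) (M.inv_mem hyM)⟩
  have hWP : ∀ p ∈ P, ∀ a ∈ W, p * a * p⁻¹ ∈ W := by
    intro p hp
    have hle : W.map (MulAut.conj p).toMonoidHom ≤ W := by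
      refine hRW _ i ?_ (by rw [card_map_of_injective (MulAut.conj p).injective, hWi]) ?_
      · rintro _ ⟨a, ha, rfl⟩
        exact hMP p hp a ha.2
      · rintro _ ⟨a, ha, rfl⟩
        refine ⟨y * a * y⁻¹, hWy a ha, ?_⟩
        have hc : y * p = p * y := hP.comm y hyP p hp
        simp only [MulEquiv.coe_toMonoidHom, MulAut.conj_apply]
        calc p * (y * a * y⁻¹) * p⁻¹ = p * y * a * (p * y)⁻¹ := by group
          _ = y * p * a * (y * p)⁻¹ := by rw [hc]
          _ = y * (p * a * p⁻¹) * y⁻¹ := by group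
    exact fun a ha => hle ⟨a, ha, rfl⟩
  have hWs : ∀ a ∈ W, s * a * s⁻¹ ∈ W := fun a ha => ⟨hQn s (mem_cz_iff.2 hs) a ha.1, hMs a ha.2⟩
  have hVW : V y ≤ W := le_inf hVQ hVM
  have h2y : ∀ a ∈ Q, a * y = y * a → a ∈ V y := fun a ha hay => by
    refine hV2 a 6 hay ?_
    have := pow_card_eq_one' (x := (⟨a, ha⟩ : Q))
    rw [hQ64] at this
    simpa using congrArg Subtype.val this
  -- the four group is properly contained in `W`
  have hne : V y ≠ W := by
    intro heq
    have hlt := exists_normalized hVQ (fun e => by rw [e, hQ64] at hVcard; omega) (i := 6) (by rw [hQ64]; norm_num)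
    set N1 := Q ⊓ normalizer (V y : Set G) with hN1
    obtain ⟨a, haV, ha1, haz⟩ : ∃ a ∈ V y, a ≠ 1 ∧ a ≠ z := by
      by_contra! h
      have hsub : (V y : Set G) ⊆ {1, z} := fun a ha => by
        by_cases h1 : a = 1
        · exact Or.inl h1
        · exact Or.inr (h a ha h1)
      have := (Set.ncard_le_ncard hsub (Set.toFinite _)).trans (Set.ncard_insert_le _ _)
      rw [Set.ncard_singleton, ← Nat.card_coe_set_eq, SetLike.coe_sort_coe, hVcard] at this
      omega
    have hV4 : (V y : Set G) = ↑({1, z, a, z * a} : Finset G) := by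
      have hsub : (↑({1, z, a, z * a} : Finset G) : Set G) ⊆ (V y : Set G) := by
        simp [Set.insert_subset_iff, one_mem, hzV, haV, mul_mem hzV haV]
      refine (Set.eq_of_subset_of_ncard_le hsub ?_ (Set.toFinite _)).symm
      rw [Set.ncard_coe_finset, ← Nat.card_coe_set_eq, SetLike.coe_sort_coe, hVcard]
      have h1 : z * a ≠ 1 := fun e => haz (by
        rw [mul_eq_one_iff_inv_eq.1 e |>.symm]; exact inv_eq_of_mul_eq_one_right (hVsq z hzV))
      have h2 : z * a ≠ z := fun e => ha1 (mul_eq_left.1 e)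
      have h3 : z * a ≠ a := fun e => hz1 (mul_eq_right.1 e)
      rw [Finset.card_insert_of_notMem, Finset.card_eq_three.2 ⟨_, _, _, haz.symm, h2.symm, h3.symm, rfl⟩]
      simp [hz1.symm, ha1.symm, h1.symm]
    have hfix : ∀ n ∈ N1, n * a = a * n → n ∈ V y := by
      intro n hn hna
      rw [heq]
      refine ⟨hn.1, fun v hv => ?_⟩
      have hnz : n * z = z * n := mem_cz_iff.1 (hQC hn.1)
      rw [hV4] at hv
      simp only [Finset.coe_insert, Finset.coe_singleton, Set.mem_insert_iff, Set.mem_singleton_iff] at hv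
      rcases hv with rfl | rfl | rfl | rfl
      · simp
      · exact hnz.symm
      · exact hna.symm
      · exact (((show Commute n z from hnz).mul_right hna)).eq.symm
    have hmove : ∀ n ∈ N1, n * a ≠ a * n → n * a * n⁻¹ = z * a := by
      intro n hn hna
      have hm : n * a * n⁻¹ ∈ V y := (mem_normalizer_iff.1 hn.2 a).1 haV
      have hnz : n * z = z * n := mem_cz_iff.1 (hQC hn.1)
      rw [← SetLike.mem_coe, hV4] at hm
      simp only [Finset.coe_insert, Finset.coe_singleton, Set.mem_insert_iff, Set.mem_singleton_iff] at hm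
      rcases hm with h | h | h | h
      · exact absurd (conj_eq_one_iff.1 h) ha1
      · exfalso
        apply haz
        have h' : n * a * n⁻¹ = n * z * n⁻¹ := by rw [h, hnz, mul_inv_cancel_right]
        exact mul_left_cancel (mul_right_cancel h')
      · exact absurd (mul_inv_eq_iff_eq_mul.1 h) hna
      · exact h
    have hle8 : Nat.card N1 ≤ 8 := by
      by_cases hall : ∀ n ∈ N1, n * a = a * n
      · have := Nat.le_of_dvd Nat.card_pos (card_dvd_of_le (fun n hn => hfix n hn (hall n hn) : N1 ≤ V y))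
        omega
      · push Not at hall
        obtain ⟨n0, hn0, hn0a⟩ := hall
        have hsub : (N1 : Set G) ⊆ (V y : Set G) ∪ (fun v => n0 * v) '' (V y : Set G) := by
          intro n hn
          by_cases hna : n * a = a * n
          · exact Or.inl (hfix n hn hna)
          · refine Or.inr ⟨n0⁻¹ * n, hfix _ (mul_mem (inv_mem hn0) hn) ?_, mul_inv_cancel_left n0 n⟩
            have e0 := hmove n0 hn0 hn0a
            have e1 := hmove n hn hna
            calc n0⁻¹ * n * a = n0⁻¹ * (n * a * n⁻¹) * n := by group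
              _ = n0⁻¹ * (n0 * a * n0⁻¹) * n := by rw [e1, e0]
              _ = a * (n0⁻¹ * n) := by group
        have := (Set.ncard_le_ncard hsub (Set.toFinite _)).trans (Set.ncard_union_le _ _)
        rw [← Nat.card_coe_set_eq, SetLike.coe_sort_coe] at this
        have himg := Set.ncard_image_le (s := (V y : Set G)) (f := fun v => n0 * v) (Set.toFinite _)
        rw [← Nat.card_coe_set_eq (V y : Set G), SetLike.coe_sort_coe, hVcard] at himg this
        omega
    have hgt : 4 < Nat.card N1 := by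
      by_contra h
      exact hlt.ne (eq_of_le_of_card_ge hlt.le (by rw [hVcard]; omega))
    have hd64 : Nat.card N1 ∣ 64 := hQ64 ▸ card_dvd_of_le inf_le_left
    have hN18 : Nat.card N1 = 8 := by
      generalize Nat.card N1 = c at hgt hle8 hd64
      interval_cases c <;> first | omega | norm_num at hd64
    have h3 := three_dvd_diff hy hlt.le (fun n hn => ?_) (fun v hv => hP.V_invariant hyP hyP hv)
      (fun n hn hny => h2y n hn.1 hny)
    · rw [hN18, hVcard] at h3
      norm_num at h3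
    · refine ⟨hQn y (hMC hyM) n hn.1, ?_⟩
      have hyN : y ∈ normalizer (V y : Set G) := centralizer_le_normalizer _ hyM
      exact (normalizer (V y : Set G)).mul_mem ((normalizer (V y : Set G)).mul_mem hyN hn.2)
        ((normalizer (V y : Set G)).inv_mem hyN)
  -- lines with four group in `W`
  have hline : ∀ t ∈ P, t ≠ 1 → ∀ a ∈ W, a ∉ V y → a * t = t * a →
      t ∉ zpowers y ∧ a ∈ V t ∧ V t ≤ W ∧ Adj P y t := by
    intro t ht ht1 a ha haV hat
    have haVt : a ∈ V t := by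
      refine (four_group hH (hP.order t ht ht1)).2.2.2.2.2 a i hat ?_
      have := pow_card_eq_one' (x := (⟨a, ha⟩ : W))
      rw [hWi] at this
      simpa using congrArg Subtype.val this
    have hty : t ∉ zpowers y := fun h => haV (V_eq_of_mem hP hyP hy1 ht1 h ▸ haVt)
    have hle : V t ≤ W := hP.V_le hH hWP ht ht1 haVt ha (fun e => haV (e ▸ one_mem _))
    exact ⟨hty, haVt, hle, hyP, hy1, ht, hty, fun u hu v hv => (hle hv).2 u hu⟩
  obtain ⟨x, hx, hx1, a, ha, haV, hax⟩ := hP.fixed_outside hVW hne (i := i) hWi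
    (by rw [hVcard]; omega) hWP (fun p hp v hv => hP.V_invariant hyP hp hv)
  obtain ⟨hxy, -, hxW, hadj⟩ := hline x hx hx1 a ha haV hax
  set E := V y ⊔ V x with hEdef
  have hVxc : ∀ t ∈ P, t ≠ 1 → ∀ v ∈ V t, v * t = t * v := fun t ht ht1 v hv => by
    rcases ((four_group hH (hP.order t ht ht1)).2.1 v).1 hv with rfl | h
    · simp
    · exact h.2
  have hd : V y ⊓ V x = ⊥ := by
    rw [eq_bot_iff]
    intro v hv
    rw [mem_bot]
    exact hP.V_fixed hH hyP hy1 hx hxy hv.1 (hVxc x hx hx1 v hv.2)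
  obtain ⟨hEcard, hEmem⟩ := sup_facts hadj.2.2.2.2 hd
  rw [hVcard, (four_group hH (hP.order x hx hx1)).1] at hEcard
  replace hEcard : Nat.card E = 16 := hEcard
  have hEW : E ≤ W := sup_le hVW hxW
  have hEinv : ∀ p ∈ P, ∀ e ∈ E, p * e * p⁻¹ ∈ E := by
    intro p hp e he
    obtain ⟨u, hu, v, hv, rfl⟩ := (hEmem e).1 he
    rw [show p * (u * v) * p⁻¹ = p * u * p⁻¹ * (p * v * p⁻¹) by group]
    exact mul_mem (mem_sup_left (hP.V_invariant hyP hp hu)) (mem_sup_right (hP.V_invariant hx hp hv))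
  have hEfix : ∀ t ∈ P, t ∉ zpowers y → t ∉ zpowers x → ∀ e ∈ E, e * t = t * e → e = 1 :=
    fun t ht hty htx => sup_fixed hadj.2.2.2.2 hd (fun v hv => hP.V_invariant hyP ht hv)
      (fun v hv => hP.V_invariant hx ht hv) (fun v hv => hP.V_fixed hH hyP hy1 ht hty hv)
      (fun v hv => hP.V_fixed hH hx hx1 ht htx hv)
  -- `W = E`
  have hWE : E = W := by
    by_contra hne'
    obtain ⟨q, hq, hq1, b, hb, hbE, hbq⟩ := hP.fixed_outside hEW hne' (i := i) hWi
      (by rw [hEcard]; omega) hWP hEinv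
    obtain ⟨hqy, hbVq, hqW, hadjq⟩ := hline q hq hq1 b hb (fun h => hbE (mem_sup_left h)) hbq
    have hqx : q ∉ zpowers x := fun h => hbE (mem_sup_right (V_eq_of_mem hP hx hx1 hq1 h ▸ hbVq))
    obtain ⟨r, hr, hry, hrx, hrq⟩ := exists_fourth hP hyP hx hq hy1 hx1 hq1
    have hr1 : r ≠ 1 := fun e => hry (e ▸ one_mem _)
    have hnyr : ¬ Adj P y r := fun h => not_three hH hP hadj hadjq h hqx hrx hrq
    obtain ⟨hrx', hrq'⟩ : Adj P r x ∧ Adj P r q := by
      obtain ⟨g, hg, hgr⟩ := hP.fusion hH hyP hy1 hr hr1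
      have h1 := hadj.map hg
      have h2 := hadjq.map hg
      rw [hgr] at h1 h2
      have hn : g * q * g⁻¹ ∉ zpowers (g * x * g⁻¹) := fun hm => hqx (by
        obtain ⟨j, hj⟩ := mem_zpowers_iff.1 hm
        refine mem_zpowers_iff.2 ⟨j, ?_⟩
        have hj' : g * x ^ j * g⁻¹ = g * q * g⁻¹ := by rw [← hj, conj_zpow]
        exact mul_left_cancel (mul_right_cancel hj'))
      have hcase : ∀ t, Adj P r t → t ∈ zpowers x ∨ t ∈ zpowers q := by
        intro t ht
        rcases four_cover hP hyP hx hq hr hy1 hx1 hq1 hxy hqy hqx hry hrx hrq ht.2.2.1 with h | h | h | h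
        · exact absurd ((ht.congr hP hyP hy1 h).symm hP) hnyr
        · exact Or.inl h
        · exact Or.inr h
        · exact absurd h ht.2.2.2.1
      rcases hcase _ h1 with ha1 | ha1 <;> rcases hcase _ h2 with ha2 | ha2
      · exact absurd ((zpowers_eq_of_mem hP hx hx1 h1.ne_one ha1).symm ▸ ha2) hn
      · exact ⟨h1.congr hP hx hx1 ha1, h2.congr hP hq hq1 ha2⟩
      · exact ⟨h2.congr hP hx hx1 ha2, h1.congr hP hq hq1 ha1⟩
      · exact absurd ((zpowers_eq_of_mem hP hq hq1 h1.ne_one ha1).symm ▸ ha2) hn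
    have hnxq : ¬ Adj P x q := fun h => not_three hH hP (hadj.symm hP) h (hrx'.symm hP) hqy hry hrq
    set R := V x ⊔ V q with hR
    have hRW' : R ≤ W := sup_le hxW hqW
    set Z := R ⊓ centralizer (R : Set G) with hZ
    have hRinv : ∀ p ∈ P, ∀ e ∈ R, p * e * p⁻¹ ∈ R := by
      intro p hp
      have : R ≤ R.comap (MulAut.conj p).toMonoidHom := sup_le
        (fun v hv => mem_sup_left (hP.V_invariant hx hp hv)) (fun v hv => mem_sup_right (hP.V_invariant hq hp hv))
      exact fun e he => this he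
    have hZinv : ∀ p ∈ P, ∀ e ∈ Z, p * e * p⁻¹ ∈ Z := by
      intro p hp e he
      refine ⟨hRinv p hp e he.1, fun v hv => ?_⟩
      have hv' : p⁻¹ * v * p ∈ R := by simpa using hRinv p⁻¹ (inv_mem hp) v hv
      calc v * (p * e * p⁻¹) = p * (p⁻¹ * v * p * e) * p⁻¹ := by group
        _ = p * (e * (p⁻¹ * v * p)) * p⁻¹ := by rw [he.2 _ hv']
        _ = p * e * p⁻¹ * v := by group
    obtain ⟨j, -, hRj⟩ := (Nat.dvd_prime_pow Nat.prime_two).1 (hWi ▸ card_dvd_of_le hRW')
    obtain ⟨l, -, hZl⟩ := (Nat.dvd_prime_pow Nat.prime_two).1 (hRj ▸ card_dvd_of_le (inf_le_left : Z ≤ R))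
    have hZne : (⊥ : Subgroup G) ≠ Z := by
      haveI : Fact (Nat.Prime 2) := ⟨Nat.prime_two⟩
      haveI : Nontrivial R := by
        rw [Subgroup.nontrivial_iff_exists_ne_one]
        exact ⟨b, mem_sup_right hbVq, fun e => hbE (e ▸ one_mem _)⟩
      haveI := (IsPGroup.of_card hRj).center_nontrivial
      obtain ⟨c, hc⟩ := exists_ne (1 : center R)
      intro e
      have hcZ : ((c : R) : G) ∈ Z :=
        ⟨(c : R).2, fun v hv => congrArg Subtype.val (mem_center_iff.1 c.2 ⟨v, hv⟩)⟩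
      rw [← e, mem_bot] at hcZ
      exact hc (Subtype.ext (Subtype.ext hcZ))
    have hZ64 : Nat.card Z < 64 * Nat.card (⊥ : Subgroup G) := by
      rw [Subgroup.card_bot, mul_one]
      by_contra h
      have hRZ : Z = R := eq_of_le_of_card_ge inf_le_left
        ((Nat.le_of_dvd Nat.card_pos (card_dvd_of_le hRW')).trans (hW64.trans (not_lt.1 h)))
      refine hnxq ⟨hx, hx1, hq, hqx, fun u hu v hv => ?_⟩
      have hvZ : v ∈ Z := hRZ.symm ▸ mem_sup_right hv
      exact hvZ.2 u (mem_sup_left hu)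
    obtain ⟨t, ht, ht1, c, hcZ, hc1, hct⟩ := hP.fixed_outside bot_le hZne (i := l) hZl hZ64 hZinv
      (fun p hp e he => by rw [mem_bot] at he ⊢; simp [he])
    rw [mem_bot] at hc1
    have hcVt : c ∈ V t := by
      refine (four_group hH (hP.order t ht ht1)).2.2.2.2.2 c l hct ?_
      have := pow_card_eq_one' (x := (⟨c, hcZ⟩ : Z))
      rw [hZl] at this
      simpa using congrArg Subtype.val this
    have hVtZ : V t ≤ Z := hP.V_le hH hZinv ht ht1 hcVt hcZ hc1
    rcases four_cover hP hyP hx hq hr hy1 hx1 hq1 hxy hqy hqx hry hrx hrq ht with h | h | h | h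
    · rw [V_eq_of_mem hP hyP hy1 ht1 h] at hVtZ
      refine hnyr ⟨hyP, hy1, hr, hry, fun u hu v hv => ?_⟩
      have hRr : R ≤ centralizer (V r : Set G) :=
        sup_le (fun w hw w' hw' => hrx'.2.2.2.2 w' hw' w hw) (fun w hw w' hw' => hrq'.2.2.2.2 w' hw' w hw)
      exact (hRr (hVtZ hu).1 v hv).symm
    · rw [V_eq_of_mem hP hx hx1 ht1 h] at hVtZ
      exact hnxq ⟨hx, hx1, hq, hqx, fun u hu v hv => ((hVtZ hu).2 v (mem_sup_right hv)).symm⟩
    · rw [V_eq_of_mem hP hq hq1 ht1 h] at hVtZ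
      exact hnxq ⟨hx, hx1, hq, hqx, fun u hu v hv => (hVtZ hv).2 u (mem_sup_left hu)⟩
    · rw [V_eq_of_mem hP hr hr1 ht1 h] at hVtZ
      exact hnyr ⟨hyP, hy1, hr, hry, fun u hu v hv => (hRW' (hVtZ hv).1).2 u hu⟩
  -- the unique commuting line
  have huniq : ∀ t, Adj P y t → t ∈ zpowers x := by
    intro t ht
    by_contra htx
    have hle : V t ≤ W := hRW (V t) 2 (fun v hv u hu => ht.2.2.2.2 u hu v hv)
      (by rw [(four_group hH (hP.order t ht.2.2.1 ht.ne_one)).1]; norm_num)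
      (fun v hv => hP.V_invariant ht.2.2.1 hyP hv)
    obtain ⟨v, hv, hv1⟩ : ∃ v ∈ V t, v ≠ 1 := by
      by_contra! h
      have h4 := (four_group hH (hP.order t ht.2.2.1 ht.ne_one)).1
      rw [(Subgroup.eq_bot_iff_forall _).2 h, Subgroup.card_bot] at h4
      omega
    exact hv1 (hEfix t ht.2.2.1 ht.2.2.2.1 htx v (hWE.symm ▸ hle hv) (hVxc t ht.2.2.1 ht.ne_one v hv))
  -- `E` is normal in the centralizer of `z`
  set N := normalizer (E : Set G) with hN
  have hnorm : ∀ t : G, (∀ e ∈ E, t * e * t⁻¹ ∈ E) → t ∈ N := by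
    intro t ht
    have hle : E.map (MulAut.conj t).toMonoidHom ≤ E := by rintro _ ⟨e, he, rfl⟩; exact ht e he
    have heq := eq_of_le_of_card_ge hle
      (le_of_eq (card_map_of_injective (K := E) (f := (MulAut.conj t).toMonoidHom) (MulEquiv.injective _)).symm)
    intro e
    constructor
    · exact ht e
    · intro he
      rw [SetLike.mem_coe, ← heq] at he
      obtain ⟨e', he', h⟩ := he
      exact (MulAut.conj t).injective h ▸ he'
  have hPN : P ≤ N := fun p hp => hnorm p (hEinv p hp)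
  have hsN : s ∈ N := hnorm s (by rw [hWE]; exact hWs)
  have hQN : Q ≤ N := by
    have hlt := exists_normalized (hEW.trans hWQ) (fun e => by rw [e, hQ64] at hEcard; omega) (i := 6)
      (by rw [hQ64]; norm_num)
    set N2 := Q ⊓ normalizer (E : Set G) with hN2
    have hd64 : Nat.card N2 ∣ 64 := hQ64 ▸ card_dvd_of_le inf_le_left
    have hgt : 16 < Nat.card N2 := by
      by_contra h
      exact hlt.ne (eq_of_le_of_card_ge hlt.le (by omega))
    have h3 := three_dvd_diff hy hlt.le (fun n hn => ⟨hQn y (hMC hyM) n hn.1,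
      N.mul_mem (N.mul_mem (hPN hyP) hn.2) (N.inv_mem (hPN hyP))⟩) (hEinv y hyP)
      (fun n hn hny => mem_sup_left (h2y n hn.1 hny))
    rw [hEcard] at h3
    have h64 : Nat.card N2 = 64 := by
      obtain ⟨k, hk, he⟩ := (Nat.dvd_prime_pow (m := 6) Nat.prime_two).1
        (show Nat.card N2 ∣ 2 ^ 6 by norm_num; exact hd64)
      rw [he] at hgt h3 ⊢
      interval_cases k <;> first | (norm_num; done) | (norm_num at hgt; done) | (norm_num at h3; done)
    exact inf_eq_left.1 (eq_of_le_of_card_ge (inf_le_left : N2 ≤ Q) (by rw [h64, hQ64]))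
  have hCN : C ≤ N := hQgen N hQN (hPN hyP) hsN
  -- the swap
  obtain ⟨g, hgP, hgx⟩ := hP.fusion hH hyP hy1 hx hx1
  have hgV : ∀ v ∈ V y, g * v * g⁻¹ ∈ V x := fun v hv => hgx ▸ conj_mem_V hv
  have hgN : g ∈ N := by
    have hgi : g⁻¹ ∈ normalizer (P : Set G) := inv_mem hgP
    have h2 := (hadj.symm hP).map hgi
    rw [← hgx, inv_inv, show g⁻¹ * (g * y * g⁻¹) * g = y by group] at h2
    have hmem := huniq _ h2
    have hy' : y ∈ zpowers (g * x * g⁻¹) := by
      obtain ⟨j, hj⟩ := mem_zpowers_iff.1 hmem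
      exact mem_zpowers_iff.2 ⟨j, by rw [conj_zpow, hj]; group⟩
    have hgxV : ∀ v ∈ V x, g * v * g⁻¹ ∈ V y := fun v hv => by
      rw [V_eq_of_mem hP ((mem_normalizer_iff.1 hgP x).1 hx) (fun e => hx1 (conj_eq_one_iff.1 e)) hy1 hy']
      exact conj_mem_V hv
    refine hnorm g fun e he => ?_
    obtain ⟨u, hu, v, hv, rfl⟩ := (hEmem e).1 he
    rw [show g * (u * v) * g⁻¹ = g * u * g⁻¹ * (g * v * g⁻¹) by group]
    exact mul_mem (mem_sup_right (hgV u hu)) (mem_sup_left (hgxV v hv))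
  -- the orbit of `z`
  obtain ⟨O, hO, hOcard⟩ := exists_orbit N z
  rw [inf_eq_right.2 hCN, show Nat.card (centralizer ({z} : Set G)) = 384 from hH.cInv z hz] at hOcard
  haveI := Fintype.ofFinite G
  have hzE : z ∈ E := mem_sup_left hzV
  have hO15 : O.card ≤ 15 := by
    have hsub : (O : Set G) ⊆ (E : Set G) \ {1} := fun o ho => by
      obtain ⟨n, hn, rfl⟩ := (hO o).1 ho
      exact ⟨(mem_normalizer_iff.1 hn z).1 hzE, fun h => hz1 (conj_eq_one_iff.1 h)⟩
    have := Set.ncard_le_ncard hsub (Set.toFinite _)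
    rw [Set.ncard_coe_finset, Set.ncard_sdiff_singleton_of_mem (one_mem _), ← Nat.card_coe_set_eq,
      SetLike.coe_sort_coe, hEcard] at this
    omega
  have hO4 : 4 ≤ O.card := by
    obtain ⟨p, hp, hpy⟩ := hP.exists_off hyP hy1
    have hp1 : p ≠ 1 := fun e => hpy (e ▸ one_mem _)
    have hp3 : p * p * p = 1 := by rw [← pow_two, ← pow_succ, show 2 + 1 = orderOf p by rw [hP.order p hp hp1], pow_orderOf_eq_one]
    have hne : ∀ v ∈ V y, v ≠ 1 → p * v * p⁻¹ ≠ v := fun v hv hv1 e =>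
      hv1 (hP.V_fixed hH hyP hy1 hp hpy hv (mul_inv_eq_iff_eq_mul.1 e).symm)
    have hb := hP.V_invariant hyP hp hzV
    have hb1 : p * z * p⁻¹ ≠ 1 := fun e => hz1 (conj_eq_one_iff.1 e)
    have hcz : p * (p * z * p⁻¹) * p⁻¹ ≠ z := fun e => hne z hzV hz1 (by
      have h : p * (p * (p * z * p⁻¹) * p⁻¹) * p⁻¹ = p * p * p * z * (p * p * p)⁻¹ := by group
      rw [e, hp3] at h
      simpa using h)
    have hgz : g * z * g⁻¹ ∉ V y := fun h => hz1 (by
      have h' : g * z * g⁻¹ ∈ V y ⊓ V x := Subgroup.mem_inf.2 ⟨h, hgV z hzV⟩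
      rw [hd, mem_bot] at h'
      exact conj_eq_one_iff.1 h')
    have hsub : ({z, p * z * p⁻¹, p * (p * z * p⁻¹) * p⁻¹, g * z * g⁻¹} : Finset G) ⊆ O := by
      simp only [Finset.insert_subset_iff, Finset.singleton_subset_iff, hO]
      exact ⟨⟨1, one_mem _, by simp⟩, ⟨p, hPN hp, rfl⟩,
        ⟨p * p, mul_mem (hPN hp) (hPN hp), by group⟩, ⟨g, hgN, rfl⟩⟩
    have h4 := Finset.card_le_card hsub
    have hc : p * (p * z * p⁻¹) * p⁻¹ ∈ V y := hP.V_invariant hyP hp hb
    rw [Finset.card_insert_of_notMem, Finset.card_eq_three.2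
      ⟨_, _, _, (hne _ hb hb1).symm, (fun e => hgz (by rw [← e]; exact hb)),
        (fun e => hgz (by rw [← e]; exact hc)), rfl⟩] at h4
    · exact h4
    · simp only [Finset.mem_insert, Finset.mem_singleton, not_or]
      exact ⟨(hne z hzV hz1).symm, hcz.symm, fun e => hgz (e ▸ hzV)⟩
  have hNd : Nat.card N ∣ 443520 := hH.card ▸ card_subgroup_dvd_card N
  have h9 : 9 ∣ Nat.card N := hP.card ▸ card_dvd_of_le hPN
  have hO15' : O.card = 15 := by
    rw [← hOcard] at hNd h9
    have key : ∀ o ∈ List.range 16, 4 ≤ o → 443520 % (o * 384) = 0 → (o * 384) % 9 = 0 → o = 15 := by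
      decide +kernel
    exact key _ (List.mem_range.2 (by omega)) hO4 (Nat.dvd_iff_mod_eq_zero.1 hNd)
      (Nat.dvd_iff_mod_eq_zero.1 h9)
  refine ⟨E, hEcard, ?_⟩
  have := N.card_mul_index
  rw [← hOcard, hO15', hH.card] at this
  show N.index = 77
  omega

end Cfsg.Agent.H69.MTwentyTwo.Back
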