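import Cfsg.Agent.CharBasic.Complete
import Cfsg.Agent.H83.ClassConst

/-!
An element of order four in a group with eight irreducible characters of odd degree has
a centralizer of order at least eight.
-/

set_option autoImplicit false

namespace Cfsg.Agent.H69.MTwentyTwo.Back

open Cfsg CharBasic ComplexConjugate

universe u

theorem exists_gauss {n : ℕ} (μ : Fin n → ℂ) (h : ∀ i, μ i ^ 4 = 1) :
    ∃ a b : ℤ, ∑ i, μ i = a + b * Complex.I ∧ (a + b) % 2 = (n : ℤ) % 2 := by
  induction n with
  | zero => exact ⟨0, 0, by simp, by simp⟩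
  | succ n ih =>
    obtain ⟨a, b, hab, hp⟩ := ih (fun i => μ i.succ) fun i => h i.succ
    rw [Fin.sum_univ_succ, hab]
    have h0 : (μ 0 - 1) * (μ 0 + 1) * ((μ 0 - Complex.I) * (μ 0 + Complex.I)) = 0 := by
      linear_combination h 0 - (μ 0 ^ 2 - 1) * Complex.I_sq
    simp only [mul_eq_zero, sub_eq_zero, add_eq_zero_iff_eq_neg] at h0
    rcases h0 with (e | e) | (e | e) <;> rw [e]
    · exact ⟨a + 1, b, by push_cast; ring, by push_cast; omega⟩
    · exact ⟨a - 1, b, by push_cast; ring, by push_cast; omega⟩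
    · exact ⟨a, b + 1, by push_cast; ring, by push_cast; omega⟩
    · exact ⟨a, b - 1, by push_cast; ring, by push_cast; omega⟩

variable {G : Type u} [Group G]

theorem one_le_normSq [Finite G] (χ : IrrCharacter G) {x : G} (hx : x ^ 4 = 1)
    (hodd : Odd (charDegree (χ : G → ℂ))) : 1 ≤ Complex.normSq ((χ : G → ℂ) x) := by
  obtain ⟨χ, hχ⟩ := χ
  cases nonempty_fintype G
  have hd := (H83.charDegree_eq hχ).1
  obtain ⟨n, ρ, hρ, rfl⟩ := hχ
  obtain ⟨b, μ, -, hμ, hsum⟩ := exists_eigenbasis_rep ρ x
  have h4 : ∀ i, μ i ^ 4 = 1 := fun i => by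
    obtain ⟨k, hk⟩ := orderOf_dvd_of_pow_eq_one hx
    rw [hk, pow_mul, hμ i, one_pow]
  obtain ⟨a, c, hac, hp⟩ := exists_gauss μ h4
  rw [Representation.char_one] at hd
  have hn : Module.finrank ℂ (Fin n → ℂ) = charDegree ρ.character := by exact_mod_cast hd
  obtain ⟨k, hk⟩ := hodd
  show 1 ≤ Complex.normSq (ρ.character x)
  rw [hsum, hac]
  have h1 : (1 : ℤ) ≤ a * a + c * c := by
    have : a ≠ 0 ∨ c ≠ 0 := by
      rw [hn, hk] at hp
      push_cast at hp
      omega
    rcases this with h | h <;> nlinarith [mul_self_nonneg a, mul_self_nonneg c, mul_self_pos.2 h]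
  rw [Complex.normSq_apply]
  simp only [Complex.add_re, Complex.intCast_re, Complex.mul_re, Complex.I_re, mul_zero,
    Complex.intCast_im, Complex.I_im, mul_one, sub_zero, add_zero, Complex.add_im, Complex.mul_im,
    zero_mul, zero_add]
  exact_mod_cast h1

theorem card_odd_le_centralizer [Fintype G] {x : G} (hx : x ^ 4 = 1) :
    ((Finset.univ.filter fun χ : IrrCharacter G => Odd (charDegree (χ : G → ℂ))).card : ℕ) ≤
      Nat.card (Subgroup.centralizer ({x} : Set G)) := by
  classical
  set s := Finset.univ.filter fun χ : IrrCharacter G => Odd (charDegree (χ : G → ℂ))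
  have h := second_orthogonality_self (G := G) x
  have h' : ∑ χ : IrrCharacter G, Complex.normSq ((χ : G → ℂ) x) =
      (Nat.card (Subgroup.centralizer ({x} : Set G)) : ℝ) := by
    apply_fun Complex.re at h
    simpa [Complex.re_sum, Complex.normSq_apply, Complex.mul_re] using h
  have : (s.card : ℝ) ≤ (Nat.card (Subgroup.centralizer ({x} : Set G)) : ℝ) := by
    rw [← h']
    calc (s.card : ℝ) = ∑ _χ ∈ s, (1 : ℝ) := by simp
      _ ≤ ∑ χ ∈ s, Complex.normSq ((χ : G → ℂ) x) :=
        Finset.sum_le_sum fun χ hχ => one_le_normSq χ hx (Finset.mem_filter.1 hχ).2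
      _ ≤ _ := Finset.sum_le_sum_of_subset_of_nonneg (Finset.subset_univ s)
        fun χ _ _ => Complex.normSq_nonneg _
  exact_mod_cast this

/-- The degree list gives twelve classes and the lower bound eight. -/
theorem facts_of_degrees [Fintype G]
    (hdeg : (Finset.univ.val.map fun chi : IrrCharacter G => charDegree (chi : G → ℂ)) =
      ({1, 21, 45, 45, 55, 99, 154, 210, 231, 280, 280, 385} : Multiset ℕ)) :
    Nat.card (ConjClasses G) = 12 ∧
      ∀ x : G, x ^ 4 = 1 → 8 ≤ Nat.card (Subgroup.centralizer ({x} : Set G)) := by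
  classical
  constructor
  · rw [← card_irrCharacter, Nat.card_eq_fintype_card]
    have := congrArg Multiset.card hdeg
    simpa using this
  · intro x hx
    refine le_trans (le_of_eq ?_) (card_odd_le_centralizer hx)
    have h := congrArg (fun m : Multiset ℕ => (m.filter Odd).card) hdeg
    simp only [Multiset.filter_map, Multiset.card_map] at h
    rw [Finset.card_def, Finset.filter_val]
    refine Eq.trans ?_ h.symm
    decide

end Cfsg.Agent.H69.MTwentyTwo.Back
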