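import Cfsg.Agent.H69.MTwentyTwo.Back.Basic
import Mathlib.Tactic.NormNum.Prime
import Mathlib.GroupTheory.Sylow

/-!
The classes of elements of orders 5, 7 and 11, and the primes dividing other centralizers.
-/

set_option autoImplicit false

namespace Cfsg.Agent.H69.MTwentyTwo.Back

open Subgroup

variable {G : Type*} [Group G] [Finite G]

theorem factorization_eq (hH : Hyp G) {p : ℕ} (hp : p = 5 ∨ p = 7 ∨ p = 11) :
    (Nat.card G).factorization p = 1 := by
  have hpr : p.Prime := by rcases hp with rfl | rfl | rfl <;> norm_num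
  have h443 : (443520 : ℕ) = p ^ 1 * (443520 / p) := by rcases hp with rfl | rfl | rfl <;> norm_num
  rw [hH.card, h443, Nat.factorization_mul (by rcases hp with rfl | rfl | rfl <;> norm_num)
      (by rcases hp with rfl | rfl | rfl <;> norm_num),
    Finsupp.add_apply, hpr.factorization_pow, Finsupp.single_eq_same,
    Nat.factorization_eq_zero_of_not_dvd (by rcases hp with rfl | rfl | rfl <;> norm_num)]

theorem self_cent (hH : Hyp G) {p e : ℕ} (hp : p = 5 ∧ e = 20 ∨ p = 7 ∧ e = 21 ∨ p = 11 ∧ e = 55)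
    {x : G} (hx : orderOf x = p) :
    cz x = p ∧ Nat.card (normalizer ((zpowers x : Subgroup G) : Set G)) = e := by
  have hc : Nat.card (zpowers x) = p := by rw [Nat.card_zpowers, hx]
  rw [cz, ← centralizer_zpowers]
  rcases hp with ⟨rfl, rfl⟩ | ⟨rfl, rfl⟩ | ⟨rfl, rfl⟩
  exacts [hH.five _ hc, hH.seven _ hc, hH.eleven _ hc]

theorem card_fus_ge (hH : Hyp G) {p e : ℕ}
    (hp : p = 5 ∧ e = 20 ∨ p = 7 ∧ e = 21 ∨ p = 11 ∧ e = 55) {x : G} (hx : orderOf x = p) :
    e ≤ (fus x).card * p := by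
  obtain ⟨h1, h2⟩ := self_cent hH hp hx
  rw [cz, ← centralizer_zpowers] at h1
  have := card_fus (G := G) (x := x)
  rwa [h1, h2] at this

theorem fus_sub (x : G) [DecidableEq G] [Fintype G] :
    fus x ⊆ ((Finset.univ.filter fun g => g ∈ zpowers x).erase 1) ∨ x = 1 := by
  classical
  by_cases hx : x = 1
  · exact Or.inr hx
  refine Or.inl fun y hy => ?_
  obtain ⟨h1, h2⟩ := fus_mem hy
  refine Finset.mem_erase.2 ⟨fun e => hx ?_, by simp [h1]⟩
  obtain ⟨g, hg⟩ := isConj_iff.1 h2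
  rw [e] at hg
  exact conj_eq_one_iff.1 hg

theorem card_zp_erase [DecidableEq G] [Fintype G] {x : G} [DecidablePred fun g => g ∈ zpowers x] :
    ((Finset.univ.filter fun g => g ∈ zpowers x).erase 1).card = orderOf x - 1 := by
  rw [Finset.card_erase_of_mem (by simp), ← Fintype.card_subtype, ← Nat.card_eq_fintype_card]
  exact congrArg (· - 1) (Nat.card_zpowers x)

/-- One class of elements of order five. -/
theorem conj_five (hH : Hyp G) {x y : G} (hx : orderOf x = 5) (hy : orderOf y = 5) :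
    IsConj y x := by
  classical
  haveI := Fintype.ofFinite G
  haveI : Fact (Nat.Prime 5) := ⟨by norm_num⟩
  obtain ⟨y', h1, h2, h3⟩ := conj_or_of_order (factorization_eq hH (Or.inl rfl)) hx hy
  have hx1 : x ≠ 1 := fun e => by rw [e, orderOf_one] at hx; norm_num at hx
  have hge := card_fus_ge hH (Or.inl ⟨rfl, rfl⟩) hx
  have heq := Finset.eq_of_subset_of_card_le ((fus_sub x).resolve_right hx1)
    (by rw [card_zp_erase, hx]; omega)
  have : y' ∈ fus x := by rw [heq]; simp [h1, h2]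
  exact h3.trans (fus_mem this).2.symm

/-- Two classes of elements of order seven or eleven, interchanged by inversion. -/
theorem conj_or_inv (hH : Hyp G) {p e : ℕ} (hp : p = 7 ∧ e = 21 ∨ p = 11 ∧ e = 55) {x y : G}
    (hx : orderOf x = p) (hy : orderOf y = p) :
    (IsConj y x ∨ IsConj y x⁻¹) ∧ ¬ IsConj x x⁻¹ := by
  classical
  haveI := Fintype.ofFinite G
  haveI : Fact p.Prime := ⟨by rcases hp with ⟨rfl, -⟩ | ⟨rfl, -⟩ <;> norm_num⟩
  have hp' : p = 5 ∧ e = 20 ∨ p = 7 ∧ e = 21 ∨ p = 11 ∧ e = 55 := Or.inr hp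
  have hn : ¬ IsConj x x⁻¹ := not_isConj_inv (by rcases hp with ⟨rfl, -⟩ | ⟨rfl, -⟩ <;> norm_num) hx
    (by rw [(self_cent hH hp' hx).2]; rcases hp with ⟨-, rfl⟩ | ⟨-, rfl⟩ <;> norm_num)
  refine ⟨?_, hn⟩
  obtain ⟨y', h1, h2, h3⟩ := conj_or_of_order (factorization_eq hH
    (by rcases hp with ⟨rfl, -⟩ | ⟨rfl, -⟩ <;> simp)) hx hy
  have hx1 : x ≠ 1 := fun h => by
    rw [h, orderOf_one] at hx
    exact (Fact.out : p.Prime).ne_one hx.symm
  have hs := (fus_sub x).resolve_right hx1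
  have hs' : fus x⁻¹ ⊆ ((Finset.univ.filter fun g => g ∈ zpowers x).erase 1) := by
    have := (fus_sub x⁻¹).resolve_right (inv_ne_one.2 hx1)
    simpa only [zpowers_inv] using this
  have hd : Disjoint (fus x) (fus x⁻¹) := by
    rw [Finset.disjoint_left]
    exact fun a ha hb => hn ((fus_mem ha).2.trans (fus_mem hb).2.symm)
  have hge := card_fus_ge hH hp' hx
  have hge' := card_fus_ge hH hp' (x := x⁻¹) (by rw [orderOf_inv, hx])
  have heq := Finset.eq_of_subset_of_card_le (Finset.union_subset hs hs') (by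
    rw [card_zp_erase, hx, Finset.card_union_of_disjoint hd]
    rcases hp with ⟨rfl, rfl⟩ | ⟨rfl, rfl⟩ <;> omega)
  have : y' ∈ fus x ∪ fus x⁻¹ := by rw [heq]; simp [h1, h2]
  rcases Finset.mem_union.1 this with h | h
  exacts [Or.inl (h3.trans (fus_mem h).2.symm), Or.inr (h3.trans (fus_mem h).2.symm)]

/-- An element which is not of order 1, 5, 7 or 11 has a centralizer of order dividing 1152. -/
theorem cz_dvd (hH : Hyp G) {g : G} (hg : ∀ p, p = 5 ∨ p = 7 ∨ p = 11 → orderOf g ≠ p) (h1 : g ≠ 1) :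
    cz g ∣ 1152 := by
  have hnd : ∀ p, p = 5 ∨ p = 7 ∨ p = 11 → ¬ p ∣ cz g := by
    intro p hp hd
    haveI : Fact p.Prime := ⟨by rcases hp with rfl | rfl | rfl <;> norm_num⟩
    obtain ⟨a, ha⟩ := exists_prime_orderOf_dvd_card' p hd
    have hap : orderOf (a : G) = p := by rw [orderOf_coe, ha]
    have hca : cz (a : G) = p := by
      rcases hp with rfl | rfl | rfl
      exacts [(self_cent hH (Or.inl ⟨rfl, rfl⟩) hap).1, (self_cent hH (Or.inr (Or.inl ⟨rfl, rfl⟩)) hap).1,
        (self_cent hH (Or.inr (Or.inr ⟨rfl, rfl⟩)) hap).1]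
    have : orderOf g ∣ p := hca ▸ (centralizer ({(a : G)} : Set G)).orderOf_dvd_natCard
      (mem_cz_iff.2 (mem_cz_iff.1 a.2).symm)
    rcases (Nat.dvd_prime (Fact.out : p.Prime)).1 this with h | h
    · exact h1 (orderOf_eq_one_iff.1 h)
    · exact hg p hp h
  have hd : cz g ∣ 385 * 1152 := by
    rw [show 385 * 1152 = Nat.card G by rw [hH.card]]
    exact card_subgroup_dvd_card _
  refine Nat.Coprime.dvd_of_dvd_mul_left ?_ hd
  rw [show (385 : ℕ) = 5 * 7 * 11 by norm_num]
  exact Nat.Coprime.mul_right (Nat.Coprime.mul_right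
    (((Nat.Prime.coprime_iff_not_dvd (by norm_num)).2 (hnd 5 (by simp))).symm)
    (((Nat.Prime.coprime_iff_not_dvd (by norm_num)).2 (hnd 7 (by simp))).symm))
    (((Nat.Prime.coprime_iff_not_dvd (by norm_num)).2 (hnd 11 (by simp))).symm)

/-- A Sylow subgroup of order nine through a three-element lies in its centralizer. -/
theorem nine_dvd_cz (hH : Hyp G) {g : G} (hg : orderOf g ∣ 9) : 9 ∣ cz g := by
  haveI : Fact (Nat.Prime 3) := ⟨by norm_num⟩
  obtain ⟨k, hk, hk'⟩ := (Nat.dvd_prime_pow (m := 2) (by norm_num : Nat.Prime 3)).1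
    (show orderOf g ∣ 3 ^ 2 by simpa using hg)
  have hpg : IsPGroup 3 (zpowers g) := IsPGroup.of_card (by rw [Nat.card_zpowers]; exact hk')
  obtain ⟨S, hS⟩ := hpg.exists_le_sylow
  have hS9 : Nat.card S = 3 ^ 2 := by
    rw [S.card_eq_multiplicity, hH.card, show (443520 : ℕ) = 3 ^ 2 * 49280 by norm_num,
      Nat.factorization_mul (by norm_num) (by norm_num), Finsupp.add_apply,
      Nat.Prime.factorization_pow (by norm_num), Finsupp.single_eq_same,
      Nat.factorization_eq_zero_of_not_dvd (by norm_num)]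
  letI : CommGroup (S : Subgroup G) := IsPGroup.commGroupOfCardEqPrimeSq hS9
  have hle : (S : Subgroup G) ≤ centralizer ({g} : Set G) := fun a ha => mem_cz_iff.2
    (congrArg Subtype.val (mul_comm (⟨a, ha⟩ : (S : Subgroup G)) ⟨g, hS (mem_zpowers g)⟩))
  have := card_dvd_of_le hle
  rwa [hS9] at this

end Cfsg.Agent.H69.MTwentyTwo.Back
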