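import Cfsg.Agent.H69.MTwentyTwo.Back.Nine

/-!
Commuting four groups of different lines: no line commutes with all three others.
-/

set_option autoImplicit false

namespace Cfsg.Agent.H69.MTwentyTwo.Back

open Subgroup

variable {G : Type*} [Group G]

/-- The four groups of two different lines commute. -/
def Adj (P : Subgroup G) (x p : G) : Prop :=
  x ∈ P ∧ x ≠ 1 ∧ p ∈ P ∧ p ∉ zpowers x ∧ ∀ a ∈ V x, ∀ b ∈ V p, a * b = b * a

variable {P : Subgroup G}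

theorem Adj.ne_one {x p : G} (h : Adj P x p) : p ≠ 1 := fun e => h.2.2.2.1 (e ▸ one_mem _)

theorem zpowers_eq_of_mem [Finite G] (hP : Nine G P) {x p : G} (hx : x ∈ P) (h1 : x ≠ 1) (hp1 : p ≠ 1)
    (hpx : p ∈ zpowers x) : zpowers p = zpowers x := by
  refine eq_of_le_of_card_ge (zpowers_le.2 hpx) ?_
  rw [hP.card_zp hx h1, hP.card_zp ((zpowers_le.2 hx) hpx) hp1]

theorem V_eq_of_mem [Finite G] (hP : Nine G P) {x p : G} (hx : x ∈ P) (h1 : x ≠ 1) (hp1 : p ≠ 1)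
    (hpx : p ∈ zpowers x) : V p = V x := by
  classical
  have ho := hP.order x hx h1
  rw [mem_zpowers_iff_mem_range_orderOf, ho] at hpx
  simp only [Finset.mem_image, Finset.mem_range] at hpx
  obtain ⟨i, hi, rfl⟩ := hpx
  interval_cases i
  · simp at hp1
  · rw [pow_one]
  · rw [← V_inv x]
    congr 1
    rw [pow_two]
    exact eq_inv_of_mul_eq_one_left (by rw [mul_assoc, ← pow_three, ← ho, pow_orderOf_eq_one])

theorem Adj.symm [Finite G] (hP : Nine G P) {x p : G} (h : Adj P x p) : Adj P p x :=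
  ⟨h.2.2.1, h.ne_one, h.1, fun hm => h.2.2.2.1
    ((zpowers_eq_of_mem hP h.2.2.1 h.ne_one h.2.1 hm) ▸ mem_zpowers p),
    fun a ha b hb => (h.2.2.2.2 b hb a ha).symm⟩

theorem Adj.map [Finite G] {g x p : G} (hg : g ∈ normalizer (P : Set G)) (h : Adj P x p) :
    Adj P (g * x * g⁻¹) (g * p * g⁻¹) := by
  obtain ⟨hx, h1, hp, hn, hc⟩ := h
  refine ⟨(mem_normalizer_iff.1 hg x).1 hx, fun e => h1 (conj_eq_one_iff.1 e),
    (mem_normalizer_iff.1 hg p).1 hp, fun hm => hn ?_, fun a ha b hb => ?_⟩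
  · obtain ⟨i, hi⟩ := mem_zpowers_iff.1 hm
    refine mem_zpowers_iff.2 ⟨i, ?_⟩
    have hi' : g * x ^ i * g⁻¹ = g * p * g⁻¹ := by rw [← hi, conj_zpow]
    exact mul_left_cancel (mul_right_cancel hi')
  · rw [← map_conj_V] at ha hb
    obtain ⟨a', ha', rfl⟩ := ha
    obtain ⟨b', hb', rfl⟩ := hb
    exact ((Commute.conj_iff g).2 (hc a' ha' b' hb')).eq

variable [Finite G]

/-- A fourth line besides three. -/
theorem exists_fourth (hP : Nine G P) {x p q : G} (hx : x ∈ P) (hp : p ∈ P) (hq : q ∈ P)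
    (hx1 : x ≠ 1) (hp1 : p ≠ 1) (hq1 : q ≠ 1) :
    ∃ r ∈ P, r ∉ zpowers x ∧ r ∉ zpowers p ∧ r ∉ zpowers q := by
  by_contra! hall
  have hsub : (P : Set G) ⊆ (zpowers x : Set G) ∪ (zpowers p : Set G) ∪ (zpowers q : Set G) := by
    intro r hr
    by_cases h1 : r ∈ zpowers x
    · exact Or.inl (Or.inl h1)
    by_cases h2 : r ∈ zpowers p
    · exact Or.inl (Or.inr h2)
    exact Or.inr (hall r hr h1 h2)
  have key : ((P : Set G) \ {1}).ncard ≤ 6 := by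
    have hsub' : (P : Set G) \ {1} ⊆ ((zpowers x : Set G) \ {1}) ∪ ((zpowers p : Set G) \ {1}) ∪
        ((zpowers q : Set G) \ {1}) := fun r hr => by
      rcases hsub hr.1 with (h | h) | h
      exacts [Or.inl (Or.inl ⟨h, hr.2⟩), Or.inl (Or.inr ⟨h, hr.2⟩), Or.inr ⟨h, hr.2⟩]
    have h2 : ∀ t ∈ P, t ≠ 1 → ((zpowers t : Set G) \ {1}).ncard = 2 := fun t ht ht1 => by
      rw [Set.ncard_sdiff_singleton_of_mem (one_mem _), ← Nat.card_coe_set_eq, SetLike.coe_sort_coe,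
        hP.card_zp ht ht1]
    refine (Set.ncard_le_ncard hsub' (Set.toFinite _)).trans ((Set.ncard_union_le _ _).trans ?_)
    have := Set.ncard_union_le ((zpowers x : Set G) \ {1}) ((zpowers p : Set G) \ {1})
    rw [h2 x hx hx1, h2 p hp hp1] at this
    rw [h2 q hq hq1]
    omega
  rw [Set.ncard_sdiff_singleton_of_mem (one_mem _), ← Nat.card_coe_set_eq, SetLike.coe_sort_coe,
    hP.card] at key
  omega

/-- Four lines exhaust `P`. -/
theorem four_cover (hP : Nine G P) {x p q r t : G} (hx : x ∈ P) (hp : p ∈ P) (hq : q ∈ P)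
    (hr : r ∈ P) (hx1 : x ≠ 1) (hp1 : p ≠ 1) (hq1 : q ≠ 1) (hpx : p ∉ zpowers x)
    (hqx : q ∉ zpowers x) (hqp : q ∉ zpowers p) (hrx : r ∉ zpowers x) (hrp : r ∉ zpowers p)
    (hrq : r ∉ zpowers q) (ht : t ∈ P) :
    t ∈ zpowers x ∨ t ∈ zpowers p ∨ t ∈ zpowers q ∨ t ∈ zpowers r := by
  by_contra! hn
  obtain ⟨hn1, hn2, hn3, hn4⟩ := hn
  have hr1 : r ≠ 1 := fun e => hrx (e ▸ one_mem _)
  have ht1 : t ≠ 1 := fun e => hn1 (e ▸ one_mem _)
  have h2 : ∀ s ∈ P, s ≠ 1 → ((zpowers s : Set G) \ {1}).ncard = 2 := fun s hs hs1 => by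
    rw [Set.ncard_sdiff_singleton_of_mem (one_mem _), ← Nat.card_coe_set_eq, SetLike.coe_sort_coe,
      hP.card_zp hs hs1]
  have hd : ∀ s ∈ P, s ≠ 1 → ∀ s' ∈ P, s' ∉ zpowers s →
      Disjoint ((zpowers s : Set G) \ {1}) ((zpowers s' : Set G) \ {1}) := fun s hs hs1 s' hs' hn => by
    rw [Set.disjoint_left]
    rintro a ⟨ha, ha1⟩ ⟨ha', -⟩
    apply hn
    rw [← zpowers_eq_of_mem hP hs hs1 ha1 ha,
      zpowers_eq_of_mem hP hs' (fun e => hn (e ▸ one_mem _)) ha1 ha']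
    exact mem_zpowers _
  set Lx := (zpowers x : Set G) \ {1}
  set Lp := (zpowers p : Set G) \ {1}
  set Lq := (zpowers q : Set G) \ {1}
  set Lr := (zpowers r : Set G) \ {1}
  set Lt := (zpowers t : Set G) \ {1}
  have hsub : Lx ∪ Lp ∪ Lq ∪ Lr ∪ Lt ⊆ (P : Set G) \ {1} := by
    rintro a ((((h | h) | h) | h) | h) <;> refine ⟨?_, h.2⟩
    exacts [(zpowers_le.2 hx) h.1, (zpowers_le.2 hp) h.1, (zpowers_le.2 hq) h.1, (zpowers_le.2 hr) h.1,
      (zpowers_le.2 ht) h.1]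
  have := Set.ncard_le_ncard hsub (Set.toFinite _)
  rw [Set.ncard_union_eq, Set.ncard_union_eq, Set.ncard_union_eq, Set.ncard_union_eq, h2 x hx hx1,
    h2 p hp hp1, h2 q hq hq1, h2 r hr hr1, h2 t ht ht1,
    Set.ncard_sdiff_singleton_of_mem (one_mem _), ← Nat.card_coe_set_eq, SetLike.coe_sort_coe,
    hP.card] at this
  · omega
  · exact hd x hx hx1 p hp hpx
  · exact Disjoint.union_left (hd x hx hx1 q hq hqx) (hd p hp hp1 q hq hqp)
  · exact Disjoint.union_left (Disjoint.union_left (hd x hx hx1 r hr hrx) (hd p hp hp1 r hr hrp))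
      (hd q hq hq1 r hr hrq)
  · exact Disjoint.union_left (Disjoint.union_left (Disjoint.union_left (hd x hx hx1 t ht hn1)
      (hd p hp hp1 t ht hn2)) (hd q hq hq1 t ht hn3)) (hd r hr hr1 t ht hn4)

theorem not_complete (hH : Hyp G) (hP : Nine G P) {x p q r : G} (hx1 : x ≠ 1)
    (hxp : Adj P x p) (hxq : Adj P x q) (hxr : Adj P x r) (hpq : Adj P p q) (hpr : Adj P p r)
    (hqr : Adj P q r) : False := by
  obtain ⟨hx, -, hp, hpx, cxp⟩ := hxp
  obtain ⟨-, -, hq, hqx, cxq⟩ := hxq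
  obtain ⟨-, -, hr, hrx, cxr⟩ := hxr
  obtain ⟨-, hp1, -, hqp, cpq⟩ := hpq
  obtain ⟨-, -, -, hrp, cpr⟩ := hpr
  obtain ⟨-, hq1, -, hrq, cqr⟩ := hqr
  have hfix : ∀ s ∈ P, s ≠ 1 → ∀ s' ∈ P, s' ∉ zpowers s → ∀ a ∈ V s, a * s' = s' * a → a = 1 :=
    fun s hs hs1 s' hs' hn a ha h => hP.V_fixed hH hs hs1 hs' hn ha h
  have hinv : ∀ s ∈ P, ∀ s' ∈ P, ∀ a ∈ V s, s' * a * s'⁻¹ ∈ V s :=
    fun s hs s' hs' a ha => hP.V_invariant hs hs' ha
  have hVc : ∀ s ∈ P, s ≠ 1 → ∀ a ∈ V s, a * s = s * a := fun s hs hs1 a ha => by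
    rcases ((four_group hH (hP.order s hs hs1)).2.1 a).1 ha with rfl | h
    · simp
    · exact h.2
  have hr1 : r ≠ 1 := fun e => hrx (e ▸ one_mem _)
  have hd1 : V x ⊓ V p = ⊥ := by
    rw [eq_bot_iff]
    intro a ha
    rw [mem_bot]
    exact hfix x hx hx1 p hp hpx a ha.1 (hVc p hp hp1 a ha.2)
  obtain ⟨hA, hAm⟩ := sup_facts cxp hd1
  have hAfix : ∀ s ∈ P, s ∉ zpowers x → s ∉ zpowers p → ∀ a ∈ V x ⊔ V p, a * s = s * a → a = 1 :=
    fun s hs hsx hsp => sup_fixed cxp hd1 (hinv x hx s hs) (hinv p hp s hs)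
      (hfix x hx hx1 s hs hsx) (hfix p hp hp1 s hs hsp)
  have cAq : ∀ a ∈ V x ⊔ V p, ∀ b ∈ V q, a * b = b * a := fun a ha b hb => by
    obtain ⟨u, hu, v, hv, rfl⟩ := (hAm a).1 ha
    exact ((show Commute u b from cxq u hu b hb).mul_left (cpq v hv b hb)).eq
  have hd2 : (V x ⊔ V p) ⊓ V q = ⊥ := by
    rw [eq_bot_iff]
    intro a ha
    rw [mem_bot]
    exact hAfix q hq hqx hqp a ha.1 (hVc q hq hq1 a ha.2)
  obtain ⟨hB, hBm⟩ := sup_facts cAq hd2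
  have hAinv : ∀ a ∈ V x ⊔ V p, r * a * r⁻¹ ∈ V x ⊔ V p := fun a ha => by
    obtain ⟨u, hu, v, hv, rfl⟩ := (hAm a).1 ha
    rw [show r * (u * v) * r⁻¹ = r * u * r⁻¹ * (r * v * r⁻¹) by group]
    exact mul_mem (mem_sup_left (hinv x hx r hr u hu)) (mem_sup_right (hinv p hp r hr v hv))
  have cBr : ∀ a ∈ V x ⊔ V p ⊔ V q, ∀ b ∈ V r, a * b = b * a := fun a ha b hb => by
    obtain ⟨w, hw, s, hs, rfl⟩ := (hBm a).1 ha
    obtain ⟨u, hu, v, hv, rfl⟩ := (hAm w).1 hw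
    exact (((show Commute u b from cxr u hu b hb).mul_left (cpr v hv b hb)).mul_left (cqr s hs b hb)).eq
  have hd3 : (V x ⊔ V p ⊔ V q) ⊓ V r = ⊥ := by
    rw [eq_bot_iff]
    intro a ha
    rw [mem_bot]
    exact sup_fixed cAq hd2 hAinv (hinv q hq r hr) (hAfix r hr hrx hrp) (hfix q hq hq1 r hr hrq) a ha.1
      (hVc r hr hr1 a ha.2)
  obtain ⟨hC, -⟩ := sup_facts cBr hd3
  have h4 : ∀ s ∈ P, s ≠ 1 → Nat.card (V s) = 4 := fun s hs hs1 => (four_group hH (hP.order s hs hs1)).1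
  have := card_subgroup_dvd_card (V x ⊔ V p ⊔ V q ⊔ V r)
  rw [hC, hB, hA, h4 x hx hx1, h4 p hp hp1, h4 q hq hq1, h4 r hr hr1, hH.card] at this
  norm_num at this

/-- No line commutes with all three others. -/
theorem not_three (hH : Hyp G) (hP : Nine G P) {x p q r : G} (hxp : Adj P x p) (hxq : Adj P x q)
    (hxr : Adj P x r) (hqp : q ∉ zpowers p) (hrp : r ∉ zpowers p) (hrq : r ∉ zpowers q) : False := by
  have hx := hxp.1
  have hx1 := hxp.2.1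
  have hall : ∀ s ∈ P, s ∉ zpowers x → Adj P x s := by
    intro s hs hsx
    have hs1 : s ≠ 1 := fun e => hsx (e ▸ one_mem _)
    obtain h | h | h | h := four_cover hP hx hxp.2.2.1 hxq.2.2.1 hxr.2.2.1 hx1 hxp.ne_one hxq.ne_one
      hxp.2.2.2.1 hxq.2.2.2.1 hqp hxr.2.2.2.1 hrp hrq hs
    · exact absurd h hsx
    all_goals
      refine ⟨hx, hx1, hs, hsx, ?_⟩
    · rw [show V s = V p from ?_]
      · exact hxp.2.2.2.2
      · exact V_eq_of_mem hP hxp.2.2.1 hxp.ne_one hs1 h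
    · rw [show V s = V q from ?_]
      · exact hxq.2.2.2.2
      · exact V_eq_of_mem hP hxq.2.2.1 hxq.ne_one hs1 h
    · rw [show V s = V r from ?_]
      · exact hxr.2.2.2.2
      · exact V_eq_of_mem hP hxr.2.2.1 hxr.ne_one hs1 h
  have hpair : ∀ s ∈ P, s ≠ 1 → ∀ t ∈ P, t ∉ zpowers s → Adj P s t := by
    intro s hs hs1 t ht hts
    obtain ⟨g, hg, hgs⟩ := hP.fusion hH hx hx1 hs hs1
    have ht' : g⁻¹ * t * g ∈ P := (mem_normalizer_iff''.1 hg t).1 ht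
    have hn : g⁻¹ * t * g ∉ zpowers x := fun hm => hts (by
      obtain ⟨i, hi⟩ := mem_zpowers_iff.1 hm
      exact mem_zpowers_iff.2 ⟨i, by rw [← hgs, conj_zpow, hi]; group⟩)
    have := (hall _ ht' hn).map hg
    rw [hgs, show g * (g⁻¹ * t * g) * g⁻¹ = t by group] at this
    exact this
  exact not_complete hH hP hx1 hxp hxq hxr (hpair p hxp.2.2.1 hxp.ne_one q hxq.2.2.1 hqp)
    (hpair p hxp.2.2.1 hxp.ne_one r hxr.2.2.1 hrp) (hpair q hxq.2.2.1 hxq.ne_one r hxr.2.2.1 hrq)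

end Cfsg.Agent.H69.MTwentyTwo.Back
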