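import Cfsg.Agent.H69.MTwentyTwo.Back.Four
import Cfsg.Agent.H69.MTwentyTwo.Back.EGroup
import Cfsg.Agent.H69.MTwentyTwo.Ident

/-!
A simple group of order 443520 with the character degrees, involutions and small Sylow normalizers
of M22 is M22.
-/

set_option autoImplicit false

namespace Cfsg.Agent.H69.MTwentyTwo

open Cfsg Subgroup

/-- The back end and the identification together. -/
theorem isoM22_of_degrees {G : Type*} [Group G] [Fintype G] (hG : Cfsg.IsM22 G)
    (hdeg : (Finset.univ.val.map fun chi : IrrCharacter G => charDegree (chi : G → ℂ)) =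
      ({1, 21, 45, 45, 55, 99, 154, 210, 231, 280, 280, 385} : Multiset ℕ))
    (hinv : ∀ x y : G, orderOf x = 2 → orderOf y = 2 → IsConj x y)
    (hC2 : ∀ z : G, orderOf z = 2 → Nat.card (centralizer ({z} : Set G)) = 384)
    (hP5 : ∀ P : Subgroup G, Nat.card P = 5 →
      Nat.card (centralizer (P : Set G)) = 5 ∧ Nat.card (normalizer (P : Set G)) = 20)
    (hP7 : ∀ P : Subgroup G, Nat.card P = 7 →
      Nat.card (centralizer (P : Set G)) = 7 ∧ Nat.card (normalizer (P : Set G)) = 21)
    (hP11 : ∀ P : Subgroup G, Nat.card P = 11 →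
      Nat.card (centralizer (P : Set G)) = 11 ∧ Nat.card (normalizer (P : Set G)) = 55) :
    Spor.IsoM22 G := by
  obtain ⟨h12, h4⟩ := Back.facts_of_degrees hdeg
  have hH : Back.Hyp G := ⟨hG.2, h12, hinv, hC2, hP5, hP7, hP11, h4⟩
  obtain ⟨E, hE, hidx⟩ := Back.exists_E hH
  exact isoM22_of_normalizer hG E hE hidx hP5 hdeg

end Cfsg.Agent.H69.MTwentyTwo
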