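import Cfsg.Agent.H69.MTwentyTwo.Back.ThreeLocal

/-!
A Sylow three-subgroup acting on the four groups of its lines; free actions.
-/

set_option autoImplicit false

namespace Cfsg.Agent.H69.MTwentyTwo.Back

open Subgroup

variable {G : Type*} [Group G] [Finite G]

/-- A finite set on which a subgroup acts freely by conjugation. -/
theorem dvd_card_of_free (H : Subgroup G) (s : Finset G)
    (hinv : ∀ h ∈ H, ∀ a ∈ s, h * a * h⁻¹ ∈ s)
    (hfree : ∀ h ∈ H, h ≠ 1 → ∀ a ∈ s, h * a ≠ a * h) : Nat.card H ∣ s.card := by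
  classical
  haveI := Fintype.ofFinite G
  letI : MulAction H G := MulAction.compHom G (ConjAct.toConjAct.toMonoidHom.comp H.subtype)
  let T : SubMulAction H G := { carrier := (s : Set G), smul_mem' := fun h a ha => hinv h h.2 a ha }
  have hT : Nat.card T = s.card := by
    show Nat.card ((s : Set G)) = s.card
    rw [Nat.card_coe_set_eq, Set.ncard_coe_finset]
  have hstab : ∀ t : T, MulAction.stabilizer H t = ⊥ := fun t => by
    rw [eq_bot_iff]
    intro h hh
    rw [mem_bot]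
    by_contra hne
    refine hfree h h.2 (fun e => hne (Subtype.ext e)) t t.2 ?_
    exact mul_inv_eq_iff_eq_mul.1 (congrArg Subtype.val hh)
  rw [← hT, Nat.card_congr (MulAction.selfEquivSigmaOrbits H T), Nat.card_sigma]
  refine Finset.dvd_sum fun q _ => dvd_of_eq ?_
  rw [Nat.card_coe_set_eq, ← MulAction.index_stabilizer, hstab, Subgroup.index_bot]

/-- Two commuting subgroups with trivial intersection. -/
theorem sup_facts {A B : Subgroup G} (hc : ∀ a ∈ A, ∀ b ∈ B, a * b = b * a) (hd : A ⊓ B = ⊥) :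
    Nat.card (A ⊔ B : Subgroup G) = Nat.card A * Nat.card B ∧
      ∀ g, g ∈ A ⊔ B ↔ ∃ a ∈ A, ∃ b ∈ B, a * b = g := by
  let f : A × B →* G :=
    { toFun := fun p => (p.1 : G) * p.2
      map_one' := by simp
      map_mul' := fun p q => by
        show (p.1 : G) * q.1 * ((p.2 : G) * q.2) = (p.1 : G) * p.2 * ((q.1 : G) * q.2)
        have := hc _ q.1.2 _ p.2.2
        calc (p.1 : G) * q.1 * ((p.2 : G) * q.2) = (p.1 : G) * ((q.1 : G) * p.2) * q.2 := by group
          _ = (p.1 : G) * ((p.2 : G) * q.1) * q.2 := by rw [this]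
          _ = _ := by group }
  have hr : f.range = A ⊔ B := by
    refine le_antisymm ?_ (sup_le (fun a ha => ⟨(⟨a, ha⟩, 1), by simp [f]⟩) fun b hb => ⟨(1, ⟨b, hb⟩), by simp [f]⟩)
    rintro _ ⟨p, rfl⟩
    exact mul_mem (mem_sup_left p.1.2) (mem_sup_right p.2.2)
  refine ⟨?_, fun g => ?_⟩
  · have hf : Function.Injective f := by
      rw [injective_iff_map_eq_one]
      rintro ⟨a, b⟩ h
      change (a : G) * b = 1 at h
      have ha : (a : G) ∈ A ⊓ B := Subgroup.mem_inf.2 ⟨a.2, mul_eq_one_iff_eq_inv.1 h ▸ B.inv_mem b.2⟩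
      rw [hd, mem_bot] at ha
      rw [ha, one_mul] at h
      exact Prod.ext (Subtype.ext ha) (Subtype.ext h)
    rw [← hr, ← Nat.card_congr (MonoidHom.ofInjective hf).toEquiv, Nat.card_prod]
  · rw [← hr]
    constructor
    · rintro ⟨p, rfl⟩; exact ⟨_, p.1.2, _, p.2.2, rfl⟩
    · rintro ⟨a, ha, b, hb, rfl⟩; exact ⟨(⟨a, ha⟩, ⟨b, hb⟩), rfl⟩

theorem sup_fixed {A B : Subgroup G} (hc : ∀ a ∈ A, ∀ b ∈ B, a * b = b * a) (hd : A ⊓ B = ⊥) {x : G}
    (hA : ∀ a ∈ A, x * a * x⁻¹ ∈ A) (hB : ∀ b ∈ B, x * b * x⁻¹ ∈ B)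
    (hA1 : ∀ a ∈ A, a * x = x * a → a = 1) (hB1 : ∀ b ∈ B, b * x = x * b → b = 1) :
    ∀ g ∈ A ⊔ B, g * x = x * g → g = 1 := by
  intro g hg hgx
  obtain ⟨a, ha, b, hb, rfl⟩ := ((sup_facts hc hd).2 g).1 hg
  have e : x * a * x⁻¹ * (x * b * x⁻¹) = a * b := by
    calc x * a * x⁻¹ * (x * b * x⁻¹) = x * (a * b) * x⁻¹ := by group
      _ = a * b := by rw [← hgx, mul_assoc, mul_inv_cancel, mul_one]
  have e' : a⁻¹ * (x * a * x⁻¹) = b * (x * b * x⁻¹)⁻¹ := by
    rw [eq_mul_inv_iff_mul_eq, mul_assoc, e, inv_mul_cancel_left]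
  have hmem : a⁻¹ * (x * a * x⁻¹) ∈ A ⊓ B :=
    Subgroup.mem_inf.2 ⟨A.mul_mem (A.inv_mem ha) (hA a ha), e' ▸ B.mul_mem hb (B.inv_mem (hB b hb))⟩
  rw [hd, mem_bot] at hmem
  have h1 : a = 1 := hA1 a ha (by
    have := inv_mul_eq_one.1 hmem
    exact (mul_inv_eq_iff_eq_mul.1 this.symm).symm)
  rw [h1, one_mul] at hgx ⊢
  exact hB1 b hb hgx

/-- A Sylow three-subgroup and its properties. -/
structure Nine (G : Type*) [Group G] (P : Subgroup G) : Prop where
  card : Nat.card P = 9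
  comm : ∀ a ∈ P, ∀ b ∈ P, a * b = b * a
  order : ∀ a ∈ P, a ≠ 1 → orderOf a = 3

theorem exists_nine (hH : Hyp G) {y : G} (hy : orderOf y = 3) : ∃ P, Nine G P ∧ y ∈ P := by
  haveI : Fact (Nat.Prime 3) := ⟨Nat.prime_three⟩
  obtain ⟨S, hS⟩ := (IsPGroup.of_card (n := 1) (by rw [Nat.card_zpowers, hy, pow_one]) :
    IsPGroup 3 (zpowers y)).exists_le_sylow
  have hS9 : Nat.card S = 3 ^ 2 := by
    rw [S.card_eq_multiplicity, hH.card, show (443520 : ℕ) = 3 ^ 2 * 49280 by norm_num,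
      Nat.factorization_mul (by norm_num) (by norm_num), Finsupp.add_apply,
      Nat.Prime.factorization_pow (by norm_num), Finsupp.single_eq_same,
      Nat.factorization_eq_zero_of_not_dvd (by norm_num)]
  letI : CommGroup (S : Subgroup G) := IsPGroup.commGroupOfCardEqPrimeSq hS9
  refine ⟨S, ⟨hS9, fun a ha b hb => ?_, fun a ha h1 => three_eq hH ?_ h1⟩, hS (mem_zpowers y)⟩
  · exact congrArg Subtype.val (mul_comm (⟨a, ha⟩ : (S : Subgroup G)) ⟨b, hb⟩)
  · have := orderOf_dvd_natCard _ ha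
    rw [hS9] at this
    simpa using this

variable {P : Subgroup G}

theorem Nine.isComm (hP : Nine G P) {a b : G} (ha : a ∈ P) (hb : b ∈ P) : Commute a b :=
  hP.comm a ha b hb

theorem Nine.card_zp (hP : Nine G P) {x : G} (hx : x ∈ P) (h1 : x ≠ 1) :
    Nat.card (zpowers x) = 3 := by
  rw [Nat.card_zpowers, hP.order x hx h1]

/-- An element of `P` outside the given cyclic subgroup generates `P` with it. -/
theorem Nine.gen (hP : Nine G P) {x p : G} (hx : x ∈ P) (h1 : x ≠ 1) (hp : p ∈ P) (hpx : p ∉ zpowers x) :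
    zpowers x ⊔ zpowers p = P := by
  have hle : zpowers x ⊔ zpowers p ≤ P := sup_le (zpowers_le.2 hx) (zpowers_le.2 hp)
  refine eq_of_le_of_card_ge hle ?_
  have hd := card_dvd_of_le hle
  have h3 := card_dvd_of_le (le_sup_left : zpowers x ≤ zpowers x ⊔ zpowers p)
  rw [hP.card] at hd ⊢
  rw [hP.card_zp hx h1] at h3
  rcases ((Nat.dvd_prime_pow (m := 2) Nat.prime_three).1 (by simpa using hd)) with ⟨i, hi, he⟩
  interval_cases i
  · rw [he] at h3; norm_num at h3
  · exfalso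
    apply hpx
    have := eq_of_le_of_card_ge (le_sup_left : zpowers x ≤ zpowers x ⊔ zpowers p)
      (by rw [hP.card_zp hx h1, he, pow_one])
    rw [this]
    exact mem_sup_right (mem_zpowers p)
  · rw [he]; norm_num

/-- An involution commutes with at most one line. -/
theorem Nine.meet (hH : Hyp G) (hP : Nine G P) {x p u : G} (hx : x ∈ P) (h1 : x ≠ 1) (hp : p ∈ P)
    (hu : orderOf u = 2) (hux : u * x = x * u) (hup : u * p = p * u) : p ∈ zpowers x := by
  by_contra hpx
  have hle : P ≤ centralizer ({u} : Set G) := by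
    rw [← hP.gen hx h1 hp hpx]
    exact sup_le (zpowers_le.2 (mem_cz_iff.2 hux.symm)) (zpowers_le.2 (mem_cz_iff.2 hup.symm))
  have := card_dvd_of_le hle
  rw [hP.card, show Nat.card (centralizer ({u} : Set G)) = 384 from hH.cInv u hu] at this
  norm_num at this

theorem Nine.cent (hH : Hyp G) (hP : Nine G P) : centralizer (P : Set G) = P := by
  haveI : Fact (Nat.Prime 2) := ⟨Nat.prime_two⟩
  have hle : P ≤ centralizer (P : Set G) := fun a ha b hb => hP.comm b hb a ha
  obtain ⟨x, hx, hx1⟩ : ∃ x ∈ P, x ≠ 1 := by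
    by_contra! h
    have : P = ⊥ := (Subgroup.eq_bot_iff_forall _).2 h
    have h9 := hP.card
    rw [this, Subgroup.card_bot] at h9
    norm_num at h9
  have h36 : centralizer (P : Set G) ≤ centralizer ({x} : Set G) :=
    centralizer_le (Set.singleton_subset_iff.2 hx)
  have hd := card_dvd_of_le h36
  rw [show Nat.card (centralizer ({x} : Set G)) = 36 from (three_all hH (hP.order x hx hx1)).1] at hd
  have hodd : ¬ 2 ∣ Nat.card (centralizer (P : Set G)) := fun h => by
    obtain ⟨u, hu⟩ := exists_prime_orderOf_dvd_card' (G := centralizer (P : Set G)) 2 h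
    have hle' : P ≤ centralizer ({(u : G)} : Set G) := fun a ha => mem_cz_iff.2 (u.2 a ha)
    have := card_dvd_of_le hle'
    rw [hP.card, show Nat.card (centralizer ({(u : G)} : Set G)) = 384 from
      hH.cInv _ (by rw [Subgroup.orderOf_coe, hu])] at this
    norm_num at this
  refine (eq_of_le_of_card_ge hle ?_).symm
  have hm : ∀ d ∈ Nat.divisors 36, ¬ 2 ∣ d → d ≤ 9 := by decide +kernel
  exact hP.card ▸ hm _ (Nat.mem_divisors.2 ⟨hd, by norm_num⟩) hodd

/-- The elements of `P` different from one are conjugate under the normalizer of `P`. -/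
theorem Nine.fusion (hH : Hyp G) (hP : Nine G P) {x p : G} (hx : x ∈ P) (h1 : x ≠ 1) (hp : p ∈ P)
    (hp1 : p ≠ 1) : ∃ g ∈ normalizer (P : Set G), g * x * g⁻¹ = p := by
  haveI : Fact (Nat.Prime 3) := ⟨Nat.prime_three⟩
  obtain ⟨y, z, hy, hz, hyz⟩ := exists_three_comm hH
  obtain ⟨-, -, hall⟩ := class_facts hH hy hz hyz
  have hc : IsConj x p := (hall x (by rw [hP.order x hx h1]; norm_num) h1).trans
    (hall p (by rw [hP.order p hp hp1]; norm_num) hp1).symm
  obtain ⟨g, hg⟩ := isConj_iff.1 hc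
  set K := centralizer ({p} : Set G)
  have hK : Nat.card K = 36 := (three_all hH (hP.order p hp hp1)).1
  have hsyl : ∀ R : Subgroup G, R ≤ K → Nat.card R = 9 → ∃ S : Sylow 3 K, (S : Subgroup K) = R.subgroupOf K := by
    intro R hR hRc
    refine ⟨Sylow.ofCard (R.subgroupOf K) ?_, Sylow.coe_ofCard _ _⟩
    rw [Nat.card_congr (Subgroup.subgroupOfEquivOfLe hR).toEquiv, hRc, hK,
      show (36 : ℕ) = 3 ^ 2 * 4 by norm_num, Nat.factorization_mul (by norm_num) (by norm_num),
      Finsupp.add_apply, Nat.Prime.factorization_pow (by norm_num), Finsupp.single_eq_same,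
      Nat.factorization_eq_zero_of_not_dvd (by norm_num)]
    norm_num
  have hPK : P ≤ K := fun a ha => mem_cz_iff.2 (hP.comm a ha p hp)
  set R := P.map (MulAut.conj g).toMonoidHom with hR
  have hRK : R ≤ K := by
    rintro _ ⟨a, ha, rfl⟩
    refine mem_cz_iff.2 ?_
    rw [← hg]
    exact ((Commute.conj_iff g).2 (hP.isComm ha hx)).eq
  obtain ⟨S, hS⟩ := hsyl P hPK hP.card
  obtain ⟨T, hT⟩ := hsyl R hRK (by rw [hR, card_map_of_injective (MulAut.conj g).injective, hP.card])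
  obtain ⟨h, hh⟩ := MulAction.exists_smul_eq K T S
  refine ⟨(h : G) * g, ?_, ?_⟩
  · have hle : P.map (MulAut.conj ((h : G) * g)).toMonoidHom ≤ P := by
      rintro _ ⟨a, ha, rfl⟩
      have hmem : h * ⟨g * a * g⁻¹, hRK ⟨a, ha, rfl⟩⟩ * h⁻¹ ∈ (S : Subgroup K) := by
        rw [← hh]
        exact ⟨_, (by rw [SetLike.mem_coe, hT]; exact ⟨a, ha, rfl⟩), rfl⟩
      rw [hS, mem_subgroupOf] at hmem
      simpa [mul_assoc] using hmem
    have heq := eq_of_le_of_card_ge hle
      (le_of_eq (card_map_of_injective (K := P) (f := (MulAut.conj ((h : G) * g)).toMonoidHom)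
        (MulEquiv.injective _)).symm)
    intro a
    constructor
    · intro ha
      rw [SetLike.mem_coe, ← heq]
      exact ⟨a, ha, by simp [mul_assoc]⟩
    · intro ha
      rw [SetLike.mem_coe, ← heq] at ha
      obtain ⟨b, hb, he⟩ := ha
      have : b = a := by simpa [mul_assoc] using he
      exact this ▸ hb
  · rw [show (h : G) * g * x * ((h : G) * g)⁻¹ = (h : G) * (g * x * g⁻¹) * (h : G)⁻¹ by group, hg,
      mul_inv_eq_iff_eq_mul]
    exact mem_cz_iff.1 h.2

theorem Nine.V_invariant (hP : Nine G P) {x p a : G} (hx : x ∈ P) (hp : p ∈ P) (ha : a ∈ V x) :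
    p * a * p⁻¹ ∈ V x := by
  have := conj_mem_V (g := p) ha
  rwa [mul_inv_eq_iff_eq_mul.2 (hP.comm p hp x hx)] at this

theorem Nine.exists_off (hP : Nine G P) {x : G} (hx : x ∈ P) (h1 : x ≠ 1) :
    ∃ p ∈ P, p ∉ zpowers x := by
  by_contra! h
  have := Nat.le_of_dvd Nat.card_pos (card_dvd_of_le (h : P ≤ zpowers x))
  rw [hP.card, hP.card_zp hx h1] at this
  norm_num at this

/-- Nothing in the four group of a line is fixed by another line. -/
theorem Nine.V_fixed (hH : Hyp G) (hP : Nine G P) {x p a : G} (hx : x ∈ P) (h1 : x ≠ 1) (hp : p ∈ P)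
    (hpx : p ∉ zpowers x) (ha : a ∈ V x) (hap : a * p = p * a) : a = 1 := by
  by_contra hne
  obtain ⟨ha2, hax⟩ := (((four_group hH (hP.order x hx h1)).2.1 a).1 ha).resolve_left hne
  exact hpx (hP.meet hH hx h1 hp ha2 hax hap)

/-- An invariant subgroup meeting the four group of a line contains it. -/
theorem Nine.V_le (hH : Hyp G) (hP : Nine G P) {x a : G} {A : Subgroup G}
    (hA : ∀ p ∈ P, ∀ b ∈ A, p * b * p⁻¹ ∈ A) (hx : x ∈ P) (h1 : x ≠ 1) (ha : a ∈ V x) (haA : a ∈ A)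
    (hne : a ≠ 1) : V x ≤ A := by
  classical
  obtain ⟨p, hp, hpx⟩ := hP.exists_off hx h1
  have hcard := (four_group hH (hP.order x hx h1)).1
  have hp3 : p * p * p = 1 := by
    have hp1 : p ≠ 1 := fun e => hpx (e ▸ one_mem _)
    rw [← pow_two, ← pow_succ, show 2 + 1 = orderOf p by rw [hP.order p hp hp1], pow_orderOf_eq_one]
  set b := p * a * p⁻¹ with hb
  set c := p * b * p⁻¹ with hc
  have hab : b ≠ a := fun e => hne (hP.V_fixed hH hx h1 hp hpx ha (mul_inv_eq_iff_eq_mul.1 e).symm)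
  have hbc : c ≠ b := fun e => hab (by
    have := congrArg (fun t => p⁻¹ * t * p) e
    simpa [hc, hb, mul_assoc] using this)
  have hca : c ≠ a := fun e => hab (by
    have : p * c * p⁻¹ = a := by
      rw [hc, hb, show p * (p * (p * a * p⁻¹) * p⁻¹) * p⁻¹ = (p * p * p) * a * (p * p * p)⁻¹ by group, hp3]
      simp
    rwa [e] at this)
  have hbV : b ∈ V x := hP.V_invariant hx hp ha
  have hcV : c ∈ V x := hP.V_invariant hx hp hbV
  have hb1 : b ≠ 1 := fun e => hne (conj_eq_one_iff.1 e)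
  have hc1 : c ≠ 1 := fun e => hb1 (conj_eq_one_iff.1 e)
  have hsub : (({1, a, b, c} : Finset G) : Set G) ⊆ (V x : Set G) := by
    simp [Set.insert_subset_iff, one_mem, ha, hbV, hcV]
  have heq : (({1, a, b, c} : Finset G) : Set G) = (V x : Set G) := by
    refine Set.eq_of_subset_of_ncard_le hsub ?_ (Set.toFinite _)
    rw [Set.ncard_coe_finset, ← Nat.card_coe_set_eq, SetLike.coe_sort_coe, hcard,
      Finset.card_insert_of_notMem, Finset.card_eq_three.2 ⟨_, _, _, hab.symm, hca.symm, hbc.symm, rfl⟩]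
    simp [Ne.symm hne, hb1.symm, hc1.symm]
  intro t ht
  rw [← SetLike.mem_coe, ← heq] at ht
  simp only [Finset.coe_insert, Finset.coe_singleton, Set.mem_insert_iff, Set.mem_singleton_iff] at ht
  have hbA : b ∈ A := hA p hp a haA
  rcases ht with rfl | rfl | rfl | rfl
  exacts [one_mem _, haA, hbA, hA p hp _ hbA]

theorem Nine.fixed_outside (hP : Nine G P) {A D : Subgroup G} (hDA : D ≤ A) (hne : D ≠ A)
    {i : ℕ} (hAi : Nat.card A = 2 ^ i) (hlt : Nat.card A < 64 * Nat.card D)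
    (hA : ∀ p ∈ P, ∀ a ∈ A, p * a * p⁻¹ ∈ A) (hD : ∀ p ∈ P, ∀ a ∈ D, p * a * p⁻¹ ∈ D) :
    ∃ x ∈ P, x ≠ 1 ∧ ∃ a ∈ A, a ∉ D ∧ a * x = x * a := by
  classical
  haveI := Fintype.ofFinite G
  by_contra! hall
  set s := Finset.univ.filter fun a => a ∈ A ∧ a ∉ D with hs
  have h9 := dvd_card_of_free P s (fun h hh a ha => by
    simp only [hs, Finset.mem_filter, Finset.mem_univ, true_and] at ha ⊢
    refine ⟨hA h hh a ha.1, fun hc => ha.2 ?_⟩
    have := hD h⁻¹ (inv_mem hh) _ hc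
    simpa [mul_assoc] using this) (fun h hh h1 a ha e => by
    simp only [hs, Finset.mem_filter, Finset.mem_univ, true_and] at ha
    exact hall h hh h1 a ha.1 ha.2 e.symm)
  have hcard : s.card + Nat.card D = Nat.card A := by
    rw [Nat.card_eq_fintype_card, Nat.card_eq_fintype_card, Fintype.card_subtype, Fintype.card_subtype,
      ← Finset.card_union_of_disjoint (by simp [Finset.disjoint_left, hs])]
    congr 1
    ext a
    simp only [hs, Finset.mem_union, Finset.mem_filter, Finset.mem_univ, true_and]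
    exact ⟨fun h => h.elim And.left (fun h => hDA h), fun h => (em (a ∈ D)).symm.imp (fun h' => ⟨h, h'⟩) id⟩
  rw [hP.card] at h9
  obtain ⟨j, hj, hDj⟩ := (Nat.dvd_prime_pow Nat.prime_two).1 (hAi ▸ card_dvd_of_le hDA)
  obtain ⟨k, rfl⟩ := Nat.exists_eq_add_of_le hj
  have hk0 : k ≠ 0 := fun e => hne (eq_of_le_of_card_ge hDA (by rw [hAi, hDj, e]; simp))
  have hk6 : k < 6 := by
    rw [hAi, hDj, pow_add, mul_comm 64] at hlt
    exact (Nat.pow_lt_pow_iff_right (by norm_num)).1 (Nat.lt_of_mul_lt_mul_left hlt : 2 ^ k < 2 ^ 6)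
  rw [hDj, hAi, pow_add] at hcard
  have h9' : 9 ∣ 2 ^ j * (2 ^ k - 1) := by
    have : s.card = 2 ^ j * (2 ^ k - 1) := by rw [Nat.mul_sub, mul_one]; omega
    rwa [← this]
  have h9'' : 9 ∣ 2 ^ k - 1 :=
    Nat.Coprime.dvd_of_dvd_mul_left (Nat.Coprime.pow_right j (by norm_num : Nat.Coprime 9 2)) h9'
  interval_cases k <;> first | exact hk0 rfl | norm_num at h9''

end Cfsg.Agent.H69.MTwentyTwo.Back
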