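import Cfsg.Agent.H69.MTwentyTwo.Back.Known

/-!
An element of order three commuting with an involution: three involutions in its centralizer,
conjugate there.
-/

set_option autoImplicit false

namespace Cfsg.Agent.H69.MTwentyTwo.Back

open Subgroup

variable {G : Type*} [Group G]

/-- The number of involutions in a group with an involution is odd. -/
theorem odd_card_involutions [DecidableEq G] (s : Finset G) (z : G) (hz : z ∈ s)
    (hs : ∀ u ∈ s, u * u = 1 ∧ u ≠ 1) (hconj : ∀ u ∈ s, z * u * z ∈ s)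
    (hprod : ∀ u ∈ s, u ≠ z → z * u = u * z → z * u ∈ s) : Odd s.card := by
  classical
  obtain ⟨hz2, hz1⟩ := hs z hz
  have hzi : z⁻¹ = z := inv_eq_of_mul_eq_one_right hz2
  let f : G → G := fun u => if z * u = u * z then z * u else z * u * z
  have hzz : ∀ u, z * (z * u) = u := fun u => by rw [← mul_assoc, hz2, one_mul]
  have hcomm : ∀ u, z * u = u * z → z * (z * u) = z * u * z := fun u h => by
    rw [hzz, h, mul_assoc, hz2, mul_one]
  have hnc : ∀ u, z * u ≠ u * z → z * (z * u * z) ≠ z * u * z * z := by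
    intro u h e
    rw [mul_assoc (z * u), hz2, mul_one, ← mul_assoc, ← mul_assoc, hz2, one_mul] at e
    exact h e.symm
  have key : Even (s.erase z).card := by
    have : ∑ _u ∈ s.erase z, (1 : ZMod 2) = 0 := by
      refine Finset.sum_involution (fun u _ => f u) (fun u _ => by decide) (fun u hu _ => ?_)
        (fun u hu => ?_) (fun u hu => ?_)
      · simp only [f]
        split_ifs with h
        · exact fun e => hz1 (mul_eq_right.1 e)
        · intro e
          apply h
          conv_rhs => rw [← e]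
          rw [mul_assoc, hz2, mul_one]
      · obtain ⟨hne, hus⟩ := Finset.mem_erase.1 hu
        simp only [f]
        split_ifs with h
        · exact Finset.mem_erase.2 ⟨fun e => (hs u hus).2 (mul_eq_left.1 e), hprod u hus hne h⟩
        · refine Finset.mem_erase.2 ⟨fun e => hne ?_, hconj u hus⟩
          have e' : u = z⁻¹ * (z * u * z) * z⁻¹ := by group
          rw [e', e, hzi, hz2, one_mul]
      · simp only [f]
        split_ifs with h h' h'
        · exact hzz u
        · exact absurd (hcomm u h) h'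
        · exact absurd h' (hnc u h)
        · rw [← mul_assoc, ← mul_assoc, hz2, one_mul, mul_assoc, hz2, mul_one]
    simp at this
    exact even_iff_two_dvd.2 ((ZMod.natCast_eq_zero_iff_even.1 this).two_dvd)
  rw [← Finset.card_erase_add_one hz]
  exact key.add_one

theorem card_orbit_stab {N : Type*} [Group N] [Finite N] {α : Type*} [MulAction N α] [Fintype α]
    [DecidableEq α] (a : α) [DecidablePred (· ∈ MulAction.orbit N a)] :
    (Finset.univ.filter (· ∈ MulAction.orbit N a)).card * Nat.card (MulAction.stabilizer N a) =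
      Nat.card N := by
  rw [← (MulAction.stabilizer N a).index_mul_card, MulAction.index_stabilizer,
    ← Set.ncard_coe_finset, Finset.coe_filter]
  congr 2
  ext
  simp

variable [Finite G]

/-- The orbit of `z` under conjugation by a subgroup. -/
theorem exists_orbit (N : Subgroup G) (z : G) : ∃ s : Finset G,
    (∀ u, u ∈ s ↔ ∃ n ∈ N, n * z * n⁻¹ = u) ∧
      s.card * Nat.card (N ⊓ centralizer ({z} : Set G) : Subgroup G) = Nat.card N := by
  classical
  haveI := Fintype.ofFinite G
  letI : MulAction N G := MulAction.compHom G (ConjAct.toConjAct.toMonoidHom.comp N.subtype)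
  refine ⟨Finset.univ.filter (· ∈ MulAction.orbit N z), fun u => ?_, ?_⟩
  · simp only [Finset.mem_filter, Finset.mem_univ, true_and, MulAction.mem_orbit_iff, Subtype.exists]
    exact ⟨fun ⟨n, hn, e⟩ => ⟨n, hn, e⟩, fun ⟨n, hn, e⟩ => ⟨n, hn, e⟩⟩
  · refine Eq.trans ?_ (card_orbit_stab (N := N) z)
    congr 1
    refine Nat.card_congr ⟨fun a => ⟨⟨a.1, a.2.1⟩, ?_⟩, fun a => ⟨a.1.1, a.1.2, ?_⟩, fun a => rfl, fun a => rfl⟩
    · show a.1 * z * (a.1)⁻¹ = z
      exact mul_inv_eq_iff_eq_mul.2 (mem_cz_iff.1 a.2.2)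
    · exact mem_cz_iff.2 (mul_inv_eq_iff_eq_mul.1 (a.2 : (a.1 : G) * z * (a.1 : G)⁻¹ = z))

theorem numeric {c q D m i o : ℕ} (hc : c ∣ 1152) (h9 : 9 ∣ c) (hq : q = c ∨ q = 2 * c)
    (hi : i * m = q) (ho : o * D = c) (hD : D ∣ m) (hm : m ∣ 384) (hm3 : 3 ∣ m)
    (hn : 384 / m % 3 = 1) (hodd : i % 2 = 1) (hoi : o ≤ i) (h2 : 2 ∣ c) (hD384 : ¬ 9 ∣ D) :
    i = 3 ∧ o = 3 ∧
      (q = c ∧ c ∈ [18, 72, 288, 1152] ∨ q = 2 * c ∧ c ∈ [36, 144, 576]) := by
  have key : ((Nat.divisors 1152).filter (fun c => 9 ∣ c ∧ 2 ∣ c)).toList ⊆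
      [18, 36, 72, 144, 288, 576, 1152] := by
    intro x hx
    rw [Finset.mem_toList] at hx
    revert x
    decide +kernel
  have hcm := key (Finset.mem_toList.2 (Finset.mem_filter.2 ⟨Nat.mem_divisors.2 ⟨hc, by norm_num⟩, h9, h2⟩))
  have tbl : ∀ c ∈ [18, 36, 72, 144, 288, 576, 1152], ∀ q ∈ [c, 2 * c], ∀ m ∈ [3, 6, 12, 24, 48, 96, 192, 384],
      q % m = 0 → (q / m) % 2 = 1 → 384 / m % 3 = 1 →
        q / m = 3 ∧ (q = c ∧ c ∈ [18, 72, 288, 1152] ∨ q = 2 * c ∧ c ∈ [36, 144, 576]) := by
    decide +kernel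
  have hmm : ∀ m ∈ Nat.divisors 384, 3 ∣ m → m ∈ [3, 6, 12, 24, 48, 96, 192, 384] := by
    decide +kernel
  have hmpos : 0 < m := Nat.pos_of_ne_zero fun e => by rw [e] at hm; norm_num at hm
  have hqm : q / m = i := by rw [← hi, Nat.mul_div_cancel _ hmpos]
  obtain ⟨h3, hcase⟩ := tbl c hcm q (by rcases hq with rfl | rfl <;> simp) m
    (hmm m (Nat.mem_divisors.2 ⟨hm, by norm_num⟩) hm3) (by rw [← hi, Nat.mul_mod_left])
    (by rw [hqm]; exact hodd) hn
  rw [hqm] at h3
  refine ⟨h3, ?_, hcase⟩
  have h3o : 3 ∣ o := by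
    by_contra hno
    have h : 9 ∣ o * D := ho ▸ h9
    exact hD384 (Nat.Coprime.dvd_of_dvd_mul_left
      (Nat.Coprime.pow_left 2 ((Nat.Prime.coprime_iff_not_dvd Nat.prime_three).2 hno)) h)
  have hopos : o ≠ 0 := fun e => by rw [e, zero_mul] at ho; rw [← ho] at hcm; simp at hcm
  omega

/-- The facts about an element of order three commuting with an involution. -/
theorem three_facts (hH : Hyp G) {y z : G} (hy : orderOf y = 3) (hz : orderOf z = 2)
    (hyz : z * y = y * z) :
    Nat.card (centralizer ({y} : Set G) ⊓ centralizer ({z} : Set G) : Subgroup G) * 3 = cz y ∧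
    (∃ s : Finset G, s.card = 3 ∧ ∀ u, u ∈ s ↔ orderOf u = 2 ∧ u * y = y * u) ∧
    (∀ u, orderOf u = 2 → u * y = y * u → ∃ k, k * y = y * k ∧ k * z * k⁻¹ = u) ∧
    (¬ IsConj y y⁻¹ ∧ cz y ∈ [18, 72, 288, 1152] ∨
      IsConj y y⁻¹ ∧ cz y ∈ [36, 144, 576]) := by
  classical
  haveI := Fintype.ofFinite G
  haveI : Fact (Nat.Prime 3) := ⟨Nat.prime_three⟩
  set C := centralizer ({z} : Set G) with hC
  set K := centralizer ({y} : Set G) with hK
  set Y := zpowers y with hY
  set N := normalizer (Y : Set G) with hN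
  have hyC : y ∈ C := mem_cz_iff.2 hyz.symm
  have hzK : z ∈ K := mem_cz_iff.2 hyz
  have hKN : K ≤ N := by
    rw [hK, ← centralizer_zpowers]
    exact centralizer_le_normalizer _
  have hc := cz_dvd hH (g := y) (fun p hp e => by omega) (fun e => by rw [e, orderOf_one] at hy; omega)
  have h9 : 9 ∣ cz y := nine_dvd_cz hH (by rw [hy]; norm_num)
  have h2 : 2 ∣ cz y := hz ▸ K.orderOf_dvd_natCard hzK
  -- the involutions in the centralizer
  set I := Finset.univ.filter fun u => orderOf u = 2 ∧ u * y = y * u with hI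
  have hzI : z ∈ I := by simp [hI, hz, hyz]
  have hmemI : ∀ u, u ∈ I ↔ orderOf u = 2 ∧ u * y = y * u := fun u => by simp [hI]
  have hodd : Odd I.card := by
    refine odd_card_involutions I z hzI (fun u hu => ?_) (fun u hu => ?_) (fun u hu hne hc => ?_)
    · obtain ⟨h, -⟩ := (hmemI u).1 hu
      exact ⟨by rw [← pow_two, ← h, pow_orderOf_eq_one], fun e => by rw [e, orderOf_one] at h; omega⟩
    · obtain ⟨h, h'⟩ := (hmemI u).1 hu
      have hzi : z⁻¹ = z := inv_eq_of_mul_eq_one_right (by rw [← pow_two, ← hz, pow_orderOf_eq_one])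
      refine (hmemI _).2 ⟨?_, ?_⟩
      · have := orderOf_conj (isConj_iff.2 ⟨z, rfl⟩ : IsConj u (z * u * z⁻¹))
        rw [hzi] at this
        rw [← this, h]
      · exact ((Commute.mul_left (Commute.mul_left hyz h') hyz)).eq
    · obtain ⟨h, h'⟩ := (hmemI u).1 hu
      refine (hmemI _).2 ⟨orderOf_eq_prime ?_ ?_, ((Commute.mul_left (hyz : Commute z y) h')).eq⟩
      · rw [Commute.mul_pow (show Commute z u from hc), ← hz, pow_orderOf_eq_one, hz, ← h, pow_orderOf_eq_one, mul_one]
      · intro e
        refine hne ?_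
        have hz2 : z * z = 1 := by rw [← pow_two, ← hz, pow_orderOf_eq_one]
        calc u = z * (z * u) := by rw [← mul_assoc, hz2, one_mul]
          _ = z := by rw [e, mul_one]
  -- Sylow three-subgroups of the centralizer of the involution
  have hC384 : Nat.card C = 384 := hH.cInv z hz
  have hYC : Y ≤ C := zpowers_le.2 hyC
  have hY3 : Nat.card Y = 3 := by rw [hY, Nat.card_zpowers, hy]
  have hsyl : ∀ R : Subgroup G, R ≤ C → Nat.card R = 3 →
      ∃ S : Sylow 3 C, (S : Subgroup C) = R.subgroupOf C := by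
    intro R hR hRc
    refine ⟨Sylow.ofCard (R.subgroupOf C) ?_, Sylow.coe_ofCard _ _⟩
    rw [Nat.card_congr (Subgroup.subgroupOfEquivOfLe hR).toEquiv, hRc, hC384,
      show (384 : ℕ) = 3 ^ 1 * 128 by norm_num, Nat.factorization_mul (by norm_num) (by norm_num),
      Finsupp.add_apply, Nat.Prime.factorization_pow (by norm_num), Finsupp.single_eq_same,
      Nat.factorization_eq_zero_of_not_dvd (by norm_num)]
    norm_num
  obtain ⟨S, hS⟩ := hsyl Y hYC hY3
  have hn : 384 / Nat.card (N ⊓ C : Subgroup G) % 3 = 1 := by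
    have hmod := card_sylow_modEq_one 3 C
    rw [Sylow.card_eq_index_normalizer S] at hmod
    have e : normalizer (S : Set C) = (N ⊓ C).subgroupOf C := by
      ext c
      simp only [mem_subgroupOf, mem_inf, c.2, and_true]
      constructor
      · intro h a
        constructor
        · intro ha
          have := (mem_normalizer_iff.1 h ⟨a, hYC ha⟩).1 (by rw [hS]; exact ha)
          rw [hS] at this
          exact this
        · intro ha
          have hb : (c : G)⁻¹ * ((c : G) * a * (c : G)⁻¹) * (c : G) = a := by group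
          have haC : a ∈ C := hb ▸ C.mul_mem (C.mul_mem (C.inv_mem c.2) (hYC ha)) c.2
          have := (mem_normalizer_iff.1 h ⟨a, haC⟩).2 (by rw [hS]; exact ha)
          rw [hS] at this
          exact this
      · intro h a
        show a ∈ (S : Subgroup C) ↔ c * a * c⁻¹ ∈ (S : Subgroup C)
        rw [hS]
        exact h a.1
    rw [e] at hmod
    have := Subgroup.card_mul_index ((N ⊓ C).subgroupOf C)
    rw [hC384, Nat.card_congr (Subgroup.subgroupOfEquivOfLe inf_le_right).toEquiv] at this
    rw [Nat.div_eq_of_eq_mul_right Nat.card_pos this.symm]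
    exact hmod
  -- the orbit of the normalizer
  obtain ⟨sN, hsN, hcardN⟩ := exists_orbit N z
  have hIeq : sN = I := by
    ext u
    rw [hsN, hmemI]
    constructor
    · rintro ⟨n, hn, rfl⟩
      refine ⟨(orderOf_conj (isConj_iff.2 ⟨n, rfl⟩)).symm.trans hz, ?_⟩
      have : n * z * n⁻¹ ∈ centralizer (Y : Set G) := by
        intro a ha
        have ha' : n⁻¹ * a * n ∈ Y := (mem_normalizer_iff''.1 hn a).1 ha
        have hza : z * (n⁻¹ * a * n) = n⁻¹ * a * n * z := by
          obtain ⟨k, hk⟩ := mem_zpowers_iff.1 ha'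
          rw [← hk]
          exact (Commute.zpow_right hyz k).eq
        calc a * (n * z * n⁻¹) = n * (n⁻¹ * a * n * z) * n⁻¹ := by group
          _ = n * (z * (n⁻¹ * a * n)) * n⁻¹ := by rw [hza]
          _ = n * z * n⁻¹ * a := by group
      rw [centralizer_zpowers] at this
      exact mem_cz_iff.1 this
    · rintro ⟨hu, huy⟩
      obtain ⟨g, hg⟩ := isConj_iff.1 (hH.invConj u z hu hz)
      set R := Y.map (MulAut.conj g).toMonoidHom with hR
      have hRC : R ≤ C := by
        rintro _ ⟨a, ha, rfl⟩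
        obtain ⟨k, rfl⟩ := mem_zpowers_iff.1 ha
        refine mem_cz_iff.2 ?_
        simp only [MulEquiv.coe_toMonoidHom, MulAut.conj_apply, ← hg]
        have : Commute (y ^ k) u := (Commute.zpow_left (Commute.symm huy) k)
        calc g * y ^ k * g⁻¹ * (g * u * g⁻¹) = g * (y ^ k * u) * g⁻¹ := by group
          _ = g * (u * y ^ k) * g⁻¹ := by rw [this.eq]
          _ = g * u * g⁻¹ * (g * y ^ k * g⁻¹) := by group
      obtain ⟨T, hT⟩ := hsyl R hRC (by rw [hR, card_map_of_injective (MulAut.conj g).injective, hY3])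
      obtain ⟨h, hh⟩ := MulAction.exists_smul_eq C T S
      have hn' : (h : G) * g ∈ N := by
        have hle : Y.map (MulAut.conj ((h : G) * g)).toMonoidHom ≤ Y := by
          rintro _ ⟨a, ha, rfl⟩
          have hmem : h * ⟨g * a * g⁻¹, hRC ⟨a, ha, rfl⟩⟩ * h⁻¹ ∈ (S : Subgroup C) := by
            rw [← hh]
            exact ⟨_, (by rw [SetLike.mem_coe, hT]; exact ⟨a, ha, rfl⟩), rfl⟩
          rw [hS, mem_subgroupOf] at hmem
          simpa [mul_assoc] using hmem
        have heq := eq_of_le_of_card_ge hle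
          (le_of_eq (card_map_of_injective (K := Y) (f := (MulAut.conj ((h : G) * g)).toMonoidHom)
            (MulEquiv.injective _)).symm)
        intro a
        constructor
        · intro ha
          rw [SetLike.mem_coe, ← heq]
          exact ⟨a, ha, by simp [mul_assoc]⟩
        · intro ha
          rw [SetLike.mem_coe, ← heq] at ha
          obtain ⟨b, hb, he⟩ := ha
          have : b = a := by simpa [mul_assoc] using he
          exact this ▸ hb
      refine ⟨((h : G) * g)⁻¹, inv_mem hn', ?_⟩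
      have hhz : (h : G) * z = z * h := mem_cz_iff.1 h.2
      rw [← hg]
      calc ((h : G) * g)⁻¹ * (g * u * g⁻¹) * ((h : G) * g)⁻¹⁻¹
          = g⁻¹ * (h : G)⁻¹ * (g * u * g⁻¹ * h) * g := by group
        _ = g⁻¹ * (h : G)⁻¹ * (h * (g * u * g⁻¹)) * g := by rw [hg, hhz]
        _ = u := by group
  obtain ⟨sK, hsK, hcardK⟩ := exists_orbit K z
  have hsub : sK ⊆ I := by
    intro u hu
    rw [← hIeq, hsN]
    obtain ⟨n, hn, e⟩ := (hsK u).1 hu
    exact ⟨n, hKN hn, e⟩
  -- the normalizer
  have hcK : Nat.card K = cz y := rfl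
  have hcN : Nat.card N = cz y ∨ Nat.card N = 2 * cz y := by
    have h1 : cz y ∣ Nat.card N := card_dvd_of_le hKN
    have h2 := card_fus (G := G) (x := y)
    rw [centralizer_zpowers, ← hY, ← hN, hcK] at h2
    have h3 : (fus y).card ≤ 2 := by
      have hy1 : y ≠ 1 := fun e => by rw [e, orderOf_one] at hy; omega
      have := Finset.card_le_card ((fus_sub y).resolve_right hy1)
      rw [card_zp_erase, hy] at this
      exact this
    obtain ⟨k, hk⟩ := h1
    have hpos : 0 < cz y := Nat.card_pos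
    have hNpos : 0 < Nat.card N := Nat.card_pos
    have hk2 : k ≤ 2 := by
      have : cz y * k ≤ cz y * 2 := by rw [← hk]; nlinarith
      exact Nat.le_of_mul_le_mul_left this hpos
    interval_cases k <;> omega
  have hnum := numeric (D := Nat.card (K ⊓ C : Subgroup G)) (m := Nat.card (N ⊓ C : Subgroup G))
    hc h9 hcN hcardN (by rw [hcardK, hcK]) (card_dvd_of_le (inf_le_inf_right C hKN))
    (hC384 ▸ card_dvd_of_le inf_le_right)
    (hY3 ▸ card_dvd_of_le (le_inf (le_normalizer) hYC)) hn
    (by rw [hIeq]; exact Nat.odd_iff.1 hodd) (by rw [hIeq]; exact Finset.card_le_card hsub) h2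
    (fun h => by
      have := h.trans (hC384 ▸ card_dvd_of_le (inf_le_right : K ⊓ C ≤ C))
      norm_num at this)
  obtain ⟨hi, ho, hcase⟩ := hnum
  rw [hIeq] at hi
  refine ⟨?_, ⟨I, hi, hmemI⟩, fun u hu huy => ?_, ?_⟩
  · have := hcardK
    rw [ho, hcK] at this
    rw [mul_comm]; exact this
  · have heq := Finset.eq_of_subset_of_card_le hsub (by omega)
    have : u ∈ sK := by rw [heq]; exact (hmemI u).2 ⟨hu, huy⟩
    obtain ⟨k, hk, e⟩ := (hsK u).1 this
    exact ⟨k, mem_cz_iff.1 hk, e⟩
  · rcases hcase with ⟨hq, hmem⟩ | ⟨hq, hmem⟩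
    · refine Or.inl ⟨fun hconj => ?_, hmem⟩
      obtain ⟨g, hg⟩ := isConj_iff.1 hconj
      have hgN : g ∈ N := by
        have hle : Y.map (MulAut.conj g).toMonoidHom = Y := by
          rw [hY, MonoidHom.map_zpowers]; simp [hg, zpowers_inv]
        intro a
        constructor
        · intro ha
          rw [SetLike.mem_coe, ← hle]; exact ⟨a, ha, by simp⟩
        · intro ha
          rw [SetLike.mem_coe, ← hle] at ha
          obtain ⟨b, hb, he⟩ := ha
          exact (MulAut.conj g).injective he ▸ hb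
      rw [← eq_of_le_of_card_ge hKN (by rw [hq, hcK])] at hgN
      have h := mem_cz_iff.1 hgN
      rw [h, mul_assoc, mul_inv_cancel, mul_one] at hg
      have : y ^ 2 = 1 := by rw [pow_two]; nth_rewrite 2 [hg]; exact mul_inv_cancel y
      have := orderOf_dvd_of_pow_eq_one this
      rw [hy] at this
      norm_num at this
    · refine Or.inr ⟨?_, hmem⟩
      obtain ⟨g, hgN, hgK⟩ : ∃ g ∈ N, g ∉ K := by
        by_contra! hall
        have := card_dvd_of_le (fun g hg => hall g hg : N ≤ K)
        have := Nat.le_of_dvd Nat.card_pos this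
        rw [hq, hcK] at this
        have : 0 < cz y := Nat.card_pos
        omega
      have hmem' : g * y * g⁻¹ ∈ Y := (mem_normalizer_iff.1 hgN y).1 (mem_zpowers y)
      rw [hY, mem_zpowers_iff_mem_range_orderOf, hy] at hmem'
      simp only [Finset.mem_image, Finset.mem_range] at hmem'
      obtain ⟨k, hk, he⟩ := hmem'
      interval_cases k
      · exfalso
        rw [pow_zero] at he
        have h1 := conj_eq_one_iff.1 he.symm
        rw [h1, orderOf_one] at hy
        norm_num at hy
      · exfalso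
        rw [pow_one] at he
        exact hgK (mem_cz_iff.2 (mul_inv_eq_iff_eq_mul.1 he.symm))
      · refine isConj_iff.2 ⟨g, ?_⟩
        rw [← he, pow_two]
        exact eq_inv_of_mul_eq_one_left (by rw [mul_assoc, ← pow_three, ← hy, pow_orderOf_eq_one])

end Cfsg.Agent.H69.MTwentyTwo.Back
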