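import Cfsg.Agent.H69.MTwentyTwo.Back.Classes

/-!
The centralizer of an element of order three: a normal four group and a Sylow subgroup of order nine.
-/

set_option autoImplicit false

namespace Cfsg.Agent.H69.MTwentyTwo.Back

open Subgroup

variable {G : Type*} [Group G]

/-- The subgroup generated by the involutions commuting with `x`. -/
def V (x : G) : Subgroup G := closure {u | orderOf u = 2 ∧ u * x = x * u}

theorem conj_mem_V {g x a : G} (h : a ∈ V x) : g * a * g⁻¹ ∈ V (g * x * g⁻¹) := by
  unfold V at h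
  induction h using Subgroup.closure_induction with
  | mem u hu =>
    refine subset_closure ⟨?_, ?_⟩
    · rw [← hu.1]
      exact orderOf_injective (MulAut.conj g).toMonoidHom (MulAut.conj g).injective u
    · calc g * u * g⁻¹ * (g * x * g⁻¹) = g * (u * x) * g⁻¹ := by group
        _ = g * (x * u) * g⁻¹ := by rw [hu.2]
        _ = g * x * g⁻¹ * (g * u * g⁻¹) := by group
  | one => simp
  | mul a b _ _ iha ihb =>
    rw [show g * (a * b) * g⁻¹ = g * a * g⁻¹ * (g * b * g⁻¹) by group]
    exact mul_mem iha ihb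
  | inv a _ iha =>
    rw [show g * a⁻¹ * g⁻¹ = (g * a * g⁻¹)⁻¹ by group]
    exact inv_mem iha

theorem map_conj_V (g x : G) : (V x).map (MulAut.conj g).toMonoidHom = V (g * x * g⁻¹) := by
  refine le_antisymm ?_ fun a ha => ?_
  · rintro _ ⟨a, ha, rfl⟩
    exact conj_mem_V ha
  · refine ⟨g⁻¹ * a * g, ?_, by simp [mul_assoc]⟩
    simpa [mul_assoc] using conj_mem_V (g := g⁻¹) ha

theorem V_inv (x : G) : V x⁻¹ = V x := by
  unfold V
  congr 1
  ext u
  refine and_congr_right fun _ => ⟨fun h => ?_, fun h => ?_⟩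
  · have := (Commute.inv_right (show Commute u x⁻¹ from h)).eq
    rwa [inv_inv] at this
  · exact (Commute.inv_right (show Commute u x from h)).eq

variable [Finite G]

theorem exists_three_comm (hH : Hyp G) : ∃ y z : G, orderOf y = 3 ∧ orderOf z = 2 ∧ z * y = y * z := by
  haveI : Fact (Nat.Prime 2) := ⟨Nat.prime_two⟩
  haveI : Fact (Nat.Prime 3) := ⟨Nat.prime_three⟩
  obtain ⟨z, hz⟩ := exists_prime_orderOf_dvd_card' (G := G) 2 (by rw [hH.card]; norm_num)
  obtain ⟨y, hy⟩ := exists_prime_orderOf_dvd_card' (G := centralizer ({z} : Set G)) 3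
    (by rw [show Nat.card (centralizer ({z} : Set G)) = 384 from hH.cInv z hz]; norm_num)
  exact ⟨y, z, by rw [Subgroup.orderOf_coe, hy], hz, (mem_cz_iff.1 y.2).symm⟩

/-- Every element of order three commutes with an involution and has centralizer of order 36. -/
theorem three_all (hH : Hyp G) {x : G} (hx : orderOf x = 3) :
    cz x = 36 ∧ IsConj x x⁻¹ ∧ ∃ z, orderOf z = 2 ∧ z * x = x * z := by
  obtain ⟨y, z, hy, hz, hyz⟩ := exists_three_comm hH
  obtain ⟨hc, hr, hall⟩ := class_facts hH hy hz hyz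
  have hconj := hall x (by rw [hx]; norm_num) (fun e => by rw [e, orderOf_one] at hx; omega)
  obtain ⟨g, hg⟩ := isConj_iff.1 hconj.symm
  refine ⟨(cz_conj hconj).trans hc, ?_, g * z * g⁻¹, ?_, ?_⟩
  · exact hconj.trans (hr.trans (isConj_iff.2 ⟨g, by rw [← hg]; group⟩))
  · rw [← hz]; exact orderOf_injective (MulAut.conj g).toMonoidHom (MulAut.conj g).injective z
  · rw [← hg]
    calc g * z * g⁻¹ * (g * y * g⁻¹) = g * (z * y) * g⁻¹ := by group
      _ = g * (y * z) * g⁻¹ := by rw [hyz]
      _ = g * y * g⁻¹ * (g * z * g⁻¹) := by group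

theorem three_eq (hH : Hyp G) {x : G} (hx : orderOf x ∣ 9) (h1 : x ≠ 1) : orderOf x = 3 := by
  obtain ⟨y, z, hy, hz, hyz⟩ := exists_three_comm hH
  exact (orderOf_conj ((class_facts hH hy hz hyz).2.2 x hx h1)).trans hy

/-- The data attached to an element of order three commuting with an involution. -/
theorem four_group (hH : Hyp G) {x : G} (hx : orderOf x = 3) :
    Nat.card (V x) = 4 ∧
    (∀ a, a ∈ V x ↔ a = 1 ∨ orderOf a = 2 ∧ a * x = x * a) ∧
    (∀ a ∈ V x, a * a = 1) ∧ (∀ a ∈ V x, ∀ b ∈ V x, a * b = b * a) ∧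
    (∀ a ∈ V x, ∀ b ∈ V x, a ≠ 1 → b ≠ 1 → ∃ k, k * x = x * k ∧ k * a * k⁻¹ = b) ∧
    (∀ (a : G) (k : ℕ), a * x = x * a → a ^ 2 ^ k = 1 → a ∈ V x) := by
  classical
  haveI := Fintype.ofFinite G
  haveI : Fact (Nat.Prime 2) := ⟨Nat.prime_two⟩
  obtain ⟨hc36, -, z₀, hz₀, hzx₀⟩ := three_all hH hx
  obtain ⟨-, ⟨I, hI3, hI⟩, htr₀, -⟩ := three_facts hH hx hz₀ hzx₀
  have hsq : ∀ u ∈ I, u * u = 1 := fun u hu => by
    rw [← pow_two, ← ((hI u).1 hu).1, pow_orderOf_eq_one]
  have hne1 : ∀ u ∈ I, u ≠ 1 := fun u hu e => by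
    have h := ((hI u).1 hu).1
    rw [e, orderOf_one] at h
    omega
  have hIc : ∀ k u : G, k * x = x * k → u ∈ I → k * u * k⁻¹ ∈ I := by
    intro k u hk hu
    refine (hI _).2 ⟨?_, ?_⟩
    · rw [← ((hI u).1 hu).1]
      exact orderOf_injective (MulAut.conj k).toMonoidHom (MulAut.conj k).injective u
    · exact (((show Commute k x from hk).mul_left ((hI u).1 hu).2).mul_left
        (Commute.inv_left (show Commute k x from hk))).eq
  -- the involutions commute
  have hcomm : ∀ a ∈ I, ∀ b ∈ I, a * b = b * a := by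
    intro z hz z' hz'
    by_contra hne
    obtain ⟨hzo, hzx⟩ := (hI z).1 hz
    have hD := (three_facts hH hx hzo hzx).1
    have hz2 := hsq z hz
    have hzi : z⁻¹ = z := inv_eq_of_mul_eq_one_right hz2
    have hzz' : z * z' * z ∈ I := by have := hIc z z' hzx hz'; rwa [hzi] at this
    have hd1 : z' ≠ z := fun e => hne (by rw [e])
    have hd2 : z * z' * z ≠ z' := fun e => hne (by
      calc z * z' = z * z' * (z * z) := by rw [hz2, mul_one]
        _ = z' * z := by rw [← mul_assoc, e])
    have hd3 : z * z' * z ≠ z := fun e => hd1 (by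
      calc z' = z * (z * z' * z) * z := by simp only [← mul_assoc, hz2, one_mul]; rw [mul_assoc, hz2, mul_one]
        _ = z := by rw [e, hz2, one_mul])
    have hIeq : I = {z, z', z * z' * z} := by
      refine (Finset.eq_of_subset_of_card_le ?_ ?_).symm
      · simp [Finset.insert_subset_iff, hz, hz', hzz']
      · rw [hI3, Finset.card_eq_three.2 ⟨_, _, _, hd1.symm, hd3.symm, hd2.symm, rfl⟩]
    set D := (centralizer ({x} : Set G) ⊓ centralizer ({z} : Set G) : Subgroup G) with hDdef
    have hD12 : Nat.card D = 12 := by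
      have := hc36; omega
    obtain ⟨R, hR⟩ := Sylow.exists_subgroup_card_pow_prime (G := D) 2 (n := 2) (by rw [hD12]; norm_num)
    have honly : ∀ u : G, u ∈ D → orderOf u = 2 → u = z := by
      intro u hu hu2
      have huI : u ∈ I := (hI u).2 ⟨hu2, mem_cz_iff.1 hu.1⟩
      have huz : u * z = z * u := mem_cz_iff.1 hu.2
      rw [hIeq] at huI
      simp only [Finset.mem_insert, Finset.mem_singleton] at huI
      rcases huI with h | h | h
      · exact h
      · exact absurd (h ▸ huz).symm hne
      · exfalso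
        rw [h] at huz
        apply hne
        calc z * z' = z * z' * (z * z) := by rw [hz2, mul_one]
          _ = z * z' * z * z := by group
          _ = z * (z * z' * z) := huz
          _ = z' * z := by simp only [← mul_assoc, hz2, one_mul]
    obtain ⟨g, hg⟩ : ∃ g : D, g ∈ R ∧ g ≠ 1 ∧ (g : G) ≠ z := by
      by_contra! hall
      have hzD : z ∈ D := ⟨mem_cz_iff.2 hzx, mem_cz_iff.2 rfl⟩
      have hsub : (R : Set D) ⊆ {1, ⟨z, hzD⟩} := fun a ha => by
        by_cases h1 : a = 1
        · exact Or.inl h1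
        · exact Or.inr (Subtype.ext (hall a ha h1))
      have := Set.ncard_le_ncard hsub (Set.toFinite _)
      rw [← Nat.card_coe_set_eq, SetLike.coe_sort_coe, hR] at this
      have := this.trans (Set.ncard_insert_le _ _)
      rw [Set.ncard_singleton] at this
      norm_num at this
    obtain ⟨hgR, hg1, hgz⟩ := hg
    have hg4 : (g : G) ^ 4 = 1 := by
      have h := pow_card_eq_one' (x := (⟨g, hgR⟩ : R))
      rw [hR] at h
      exact congrArg (fun a : R => ((a : D) : G)) h
    have hgsq : (g : G) * g = z := by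
      refine honly _ (mul_mem g.2 g.2) (orderOf_eq_prime ?_ ?_)
      · rw [← pow_two, ← pow_mul]; exact hg4
      · intro e
        have ho : orderOf (g : G) = 2 := orderOf_eq_prime (by rw [pow_two, e]) fun e' => hg1 (Subtype.ext e')
        exact hgz (honly _ g.2 ho)
    have hgx : (g : G) * x = x * g := mem_cz_iff.1 g.2.1
    have hgzc : (g : G) * z = z * g := mem_cz_iff.1 g.2.2
    have hgu : ∀ u : G, (g : G) * ((g : G) * u * (g : G)⁻¹) * (g : G)⁻¹ = z * u * z := fun u => by
      calc (g : G) * ((g : G) * u * (g : G)⁻¹) * (g : G)⁻¹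
          = (g : G) * g * u * ((g : G) * g)⁻¹ := by group
        _ = z * u * z := by rw [hgsq, hzi]
    have hgI := hIc _ z' hgx hz'
    rw [hIeq] at hgI
    simp only [Finset.mem_insert, Finset.mem_singleton] at hgI
    rcases hgI with h | h | h
    · apply hd1
      have h' : (g : G)⁻¹ * ((g : G) * z' * (g : G)⁻¹) * g = z := by
        rw [h, mul_assoc, ← hgzc, inv_mul_cancel_left]
      rw [← h']
      group
    · have := hgu z'
      rw [h, h] at this
      exact hd2 this.symm
    · have h2' := hgu z'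
      rw [h] at h2'
      have : (g : G) * (z * z' * z) * (g : G)⁻¹ = z' := by
        calc (g : G) * (z * z' * z) * (g : G)⁻¹ = (g : G) * z * z' * ((g : G) * z⁻¹)⁻¹ := by group
          _ = z * g * z' * (z * g)⁻¹ := by rw [hzi, hgzc]
          _ = z * ((g : G) * z' * (g : G)⁻¹) * z⁻¹ := by group
          _ = z * (z * z' * z) * z := by rw [h, hzi]
          _ = z' := by simp only [← mul_assoc, hz2, one_mul]; rw [mul_assoc, hz2, mul_one]
      rw [this] at h2'
      exact hd2 h2'.symm
  have hmul : ∀ a ∈ I, ∀ b ∈ I, a ≠ b → a * b ∈ I := by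
    intro a ha b hb hab
    obtain ⟨ha2, hax⟩ := (hI a).1 ha
    obtain ⟨hb2, hbx⟩ := (hI b).1 hb
    refine (hI _).2 ⟨orderOf_eq_prime ?_ ?_, ((show Commute a x from hax).mul_left hbx).eq⟩
    · rw [Commute.mul_pow (show Commute a b from hcomm a ha b hb), pow_two, pow_two, hsq a ha, hsq b hb, mul_one]
    · intro e
      apply hab
      rw [mul_eq_one_iff_eq_inv.1 e]
      exact inv_eq_of_mul_eq_one_right (hsq b hb)
  let V' : Subgroup G :=
    { carrier := {a | a = 1 ∨ a ∈ I}
      one_mem' := Or.inl rfl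
      mul_mem' := by
        intro a b ha hb
        rcases ha with rfl | ha
        · rw [one_mul]; exact hb
        rcases hb with rfl | hb
        · rw [mul_one]; exact Or.inr ha
        by_cases hab : a = b
        · exact Or.inl (by rw [hab]; exact hsq b hb)
        · exact Or.inr (hmul a ha b hb hab)
      inv_mem' := by
        intro a ha
        rcases ha with rfl | ha
        · exact Or.inl inv_one
        · rw [inv_eq_of_mul_eq_one_right (hsq a ha)]; exact Or.inr ha }
  have hV : V x = V' := by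
    refine le_antisymm ((closure_le _).2 fun u hu => Or.inr ((hI u).2 hu)) fun a ha => ?_
    rcases ha with rfl | ha
    · exact one_mem _
    · exact subset_closure ((hI a).1 ha)
  have hmem : ∀ a, a ∈ V x ↔ a = 1 ∨ orderOf a = 2 ∧ a * x = x * a := fun a => by
    rw [hV, ← hI]; rfl
  have hcard : Nat.card (V x) = 4 := by
    have : ((V x : Subgroup G) : Set G) = ↑(insert 1 I) := by
      ext a; rw [hV]; simp [V']
    rw [← SetLike.coe_sort_coe, Nat.card_coe_set_eq, this, Set.ncard_coe_finset,
      Finset.card_insert_of_notMem fun h => hne1 1 h rfl, hI3]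
  refine ⟨hcard, hmem, fun a ha => ?_, fun a ha b hb => ?_, fun a ha b hb ha1 hb1 => ?_, fun a k hax hak => ?_⟩
  · rcases (hmem a).1 ha with rfl | ⟨h, -⟩
    · exact one_mul 1
    · rw [← pow_two, ← h, pow_orderOf_eq_one]
  · rcases (hmem a).1 ha with rfl | h
    · simp
    rcases (hmem b).1 hb with rfl | h'
    · simp
    exact hcomm a ((hI a).2 h) b ((hI b).2 h')
  · obtain ⟨ha2, hax⟩ := ((hmem a).1 ha).resolve_left ha1
    obtain ⟨hb2, hbx⟩ := ((hmem b).1 hb).resolve_left hb1
    exact (three_facts hH hx ha2 hax).2.2.1 b hb2 hbx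
  · set K := centralizer ({x} : Set G) with hK
    have hVK : V x ≤ K := fun a ha => mem_cz_iff.2 (by
      rcases (hmem a).1 ha with rfl | h
      · simp
      · exact h.2)
    haveI : ((V x).subgroupOf K).Normal := ⟨fun v hv g => by
      have := conj_mem_V (g := (g : G)) hv
      rw [show (g : G) * x * (g : G)⁻¹ = x from mul_inv_eq_iff_eq_mul.2 (mem_cz_iff.1 g.2)] at this
      exact this⟩
    have hidx : ((V x).subgroupOf K).index = 9 := by
      have := Subgroup.card_mul_index ((V x).subgroupOf K)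
      rw [Nat.card_congr (Subgroup.subgroupOfEquivOfLe hVK).toEquiv, hcard,
        show Nat.card K = 36 from hc36] at this
      omega
    set q := QuotientGroup.mk' ((V x).subgroupOf K) ⟨a, mem_cz_iff.2 hax⟩
    have h1 : orderOf q ∣ 2 ^ k := orderOf_dvd_of_pow_eq_one (by
      simp only [q, ← map_pow]
      rw [show (⟨a, mem_cz_iff.2 hax⟩ : K) ^ 2 ^ k = 1 from Subtype.ext hak, map_one])
    have h2 : orderOf q ∣ 9 := hidx ▸ (Subgroup.index_eq_card ((V x).subgroupOf K)) ▸ orderOf_dvd_natCard q
    have : orderOf q = 1 := Nat.eq_one_of_dvd_coprimes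
      (Nat.Coprime.pow_left k (by norm_num : Nat.Coprime 2 9)) h1 h2
    rw [orderOf_eq_one_iff] at this
    exact (QuotientGroup.eq_one_iff (N := (V x).subgroupOf K) ⟨a, mem_cz_iff.2 hax⟩).1 this

end Cfsg.Agent.H69.MTwentyTwo.Back
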